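import Cfsg.Agent.H123.NCBase
import Cfsg.Prelude.Def_Classical

/-!
# Noncyclic Sylow subgroups of the split linear and unitary groups (helper124)

`psl` : `n ≥ 3`, `p` odd, `p ∣ q - 1`: the Sylow `p`-subgroups of `PSL_n(q)` are not cyclic;
`psu` : `n ≥ 3`, `p` odd, `p ∣ q + 1`: the Sylow `p`-subgroups of `PSU_n(q)` are not cyclic.
-/

set_option autoImplicit false

namespace Cfsg.Agent.H124.SplitNC

open Subgroup Cfsg.Agent.H123.SpNC
open scoped Matrix

universe u v

section Abs

variable {p : ℕ} [hp : Fact p.Prime]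

/-- a pair commuting modulo the centre -/
theorem nc_quot {G : Type*} [Group G] [Finite G] {a b : G} (ha : a ^ p ∈ center G) (hb : b ^ p ∈ center G)
    (ha' : a ∉ center G) (hc : a * b * a⁻¹ * b⁻¹ ∈ center G) (hn : ∀ i : ℕ, a ^ i * b ∉ center G) :
    NC p (G ⧸ center G) := by
  have h1 : ((a : G) : G ⧸ center G) ^ p = 1 := by
    rw [← QuotientGroup.mk_pow]
    exact (QuotientGroup.eq_one_iff _).2 ha
  have h2 : orderOf ((a : G) : G ⧸ center G) = p :=
    orderOf_eq_prime h1 (fun h => ha' ((QuotientGroup.eq_one_iff _).1 h))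
  refine nc_of_pair (a := ((a : G) : G ⧸ center G)) (b := ((b : G) : G ⧸ center G)) h2 ?_ ?_ ?_
  · rw [← QuotientGroup.mk_pow]
    exact (QuotientGroup.eq_one_iff _).2 hb
  · have h3 : ((a : G) : G ⧸ center G) * (b : G) * ((a : G) : G ⧸ center G)⁻¹ * ((b : G) : G ⧸ center G)⁻¹ = 1 := by
      have := (QuotientGroup.eq_one_iff (N := center G) _).2 hc
      simpa using this
    have h4 := mul_inv_eq_one.1 h3
    exact mul_inv_eq_iff_eq_mul.1 h4
  · intro hz
    obtain ⟨k, hk⟩ := (mem_powers_iff_mem_zpowers (x := ((a : G) : G ⧸ center G))).2 hz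
    apply hn ((p - 1) * k)
    rw [← QuotientGroup.eq_one_iff, QuotientGroup.mk_mul, QuotientGroup.mk_pow, ← hk]
    show ((a : G) : G ⧸ center G) ^ ((p - 1) * k) * ((a : G) : G ⧸ center G) ^ k = 1
    rw [← pow_add]
    have h5 : (p - 1) * k + k = p * k := by
      have := hp.out.one_lt
      obtain ⟨m, rfl⟩ : ∃ m, p = m + 1 := ⟨p - 1, by omega⟩
      simp only [Nat.add_sub_cancel]
      ring
    rw [h5, pow_mul, h1, one_pow]

/-- transfer along a homomorphism injective on the elements of order `p` -/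
theorem nc_of_hom {L G : Type*} [Group L] [Group G] [Finite G] (g : L →* G)
    (hg : ∀ x : L, x ^ p = 1 → g x = 1 → x = 1) {a b : L} (ha : orderOf a = p) (hb : b ^ p = 1)
    (hab : a * b = b * a) (hn : b ∉ zpowers a) : NC p G := by
  have hap : a ^ p = 1 := by rw [← ha, pow_orderOf_eq_one]
  have h2 : orderOf (g a) = p := orderOf_eq_prime (by rw [← map_pow, hap, map_one]) (fun h => by
    have := hg a hap h
    rw [this, orderOf_one] at ha
    exact hp.out.one_lt.ne ha)
  refine nc_of_pair (a := g a) (b := g b) h2 (by rw [← map_pow, hb, map_one])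
    (by rw [← map_mul, hab, map_mul]) ?_
  rintro ⟨k, hk⟩
  apply hn
  refine ⟨k, ?_⟩
  have hk' : (g a) ^ k = g b := hk
  have hcomm : Commute (a ^ k) b⁻¹ := (Commute.zpow_left (show Commute a b from hab) k).inv_right
  have h3 : a ^ k * b⁻¹ = 1 := by
    apply hg
    · rw [hcomm.mul_pow, inv_pow, hb, inv_one, mul_one, ← zpow_natCast, ← zpow_mul, mul_comm, zpow_mul,
        zpow_natCast, hap, one_zpow]
    · rw [map_mul, map_zpow, map_inv, hk', mul_inv_cancel]
  exact mul_inv_eq_one.1 h3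

end Abs

section Lin

variable {F : Type*} [Field F] {n : ℕ}

/-- the diagonal function -/
def dv (i j : Fin n) (u : F) : Fin n → F := fun k => if k = i then u else if k = j then u⁻¹ else 1

theorem dv_left (i j : Fin n) (u : F) : dv i j u i = u := by simp [dv]

theorem dv_right {i j : Fin n} (h : i ≠ j) (u : F) : dv i j u j = u⁻¹ := by simp [dv, h.symm]

theorem dv_other {i j k : Fin n} (h : k ≠ i) (h' : k ≠ j) (u : F) : dv i j u k = 1 := by simp [dv, h, h']

theorem prod_dv {i j : Fin n} (h : i ≠ j) {u : F} (hu : u ≠ 0) : ∏ k, dv i j u k = 1 := by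
  rw [← Finset.mul_prod_erase Finset.univ _ (Finset.mem_univ i),
    ← Finset.mul_prod_erase (Finset.univ.erase i) _ (Finset.mem_erase.2 ⟨h.symm, Finset.mem_univ j⟩),
    Finset.prod_eq_one, dv_left, dv_right h, mul_one, mul_inv_cancel₀ hu]
  intro k hk
  rw [Finset.mem_erase, Finset.mem_erase] at hk
  exact dv_other hk.2.1 hk.1 u

/-- the diagonal matrix -/
def dg {i j : Fin n} (h : i ≠ j) {u : F} (hu : u ≠ 0) : Matrix.SpecialLinearGroup (Fin n) F :=
  ⟨Matrix.diagonal (dv i j u), by rw [Matrix.det_diagonal]; exact prod_dv h hu⟩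

/-- the permutation matrix of an even permutation -/
def pm (F : Type*) [Field F] (σ : Equiv.Perm (Fin n)) (h : Equiv.Perm.sign σ = 1) :
    Matrix.SpecialLinearGroup (Fin n) F :=
  ⟨σ.permMatrix F, by rw [Matrix.det_permutation, h]; simp⟩

/-- a diagonal matrix commuting with a permutation matrix -/
theorem comm_perm {d : Fin n → F} {σ : Equiv.Perm (Fin n)}
    (h : Matrix.diagonal d * σ.permMatrix F = σ.permMatrix F * Matrix.diagonal d) (k : Fin n) : d k = d (σ k) := by
  have h1 := congrFun (congrFun h k) (σ k)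
  rw [Matrix.diagonal_mul, Matrix.mul_diagonal] at h1
  have h2 : (σ.permMatrix F) k (σ k) = 1 := by
    simp [Equiv.Perm.permMatrix, PEquiv.toMatrix_apply]
  rw [h2, one_mul, mul_one] at h1
  exact h1

theorem pow_eq_one_cases {p k : ℕ} (hp : p.Prime) {u : F} (hu : u ^ p = 1) (h1 : u ≠ 1) (h : u ^ k = 1) : p ∣ k := by
  have h2 : orderOf u = p := by
    have := Fact.mk hp
    exact orderOf_eq_prime hu h1
  rw [← h2]
  exact orderOf_dvd_of_pow_eq_one h

theorem coe_pm (σ : Equiv.Perm (Fin n)) (h : Equiv.Perm.sign σ = 1) :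
    ((pm F σ h : Matrix.SpecialLinearGroup (Fin n) F) : Matrix (Fin n) (Fin n) F) = σ.permMatrix F := rfl

theorem coe_dg {i j : Fin n} (h : i ≠ j) {u : F} (hu : u ≠ 0) :
    ((dg h hu : Matrix.SpecialLinearGroup (Fin n) F) : Matrix (Fin n) (Fin n) F) = Matrix.diagonal (dv i j u) := rfl

/-- **Core.** -/
theorem core {p : ℕ} [hp : Fact p.Prime] (hp2 : p ≠ 2) (hn : 3 ≤ n) {u : F} (hup : u ^ p = 1) (hu1 : u ≠ 1)
    (hu0 : u ≠ 0) {G : Type*} [Group G] [Finite G] (f : G →* Matrix.SpecialLinearGroup (Fin n) F)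
    (hf : Function.Injective f) (hd : ∀ (i j : Fin n) (h : i ≠ j), ∃ x, f x = dg h hu0)
    (hpm : ∀ (σ : Equiv.Perm (Fin n)) (h : Equiv.Perm.sign σ = 1), ∃ x, f x = pm F σ h) :
    NC p (G ⧸ center G) := by
  -- three indices
  let i0 : Fin n := ⟨0, by omega⟩
  let i1 : Fin n := ⟨1, by omega⟩
  let i2 : Fin n := ⟨2, by omega⟩
  have h01 : i0 ≠ i1 := by simp [i0, i1, Fin.ext_iff]
  have h02 : i0 ≠ i2 := by simp [i0, i2, Fin.ext_iff]
  have h12 : i1 ≠ i2 := by simp [i1, i2, Fin.ext_iff]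
  -- central diagonal elements
  have hcen : ∀ (z : G) (d : Fin n → F), z ∈ center G → ((f z : Matrix.SpecialLinearGroup (Fin n) F) :
      Matrix (Fin n) (Fin n) F) = Matrix.diagonal d → ∀ i j : Fin n, i ≠ j → d i = d j := by
    intro z d hz hzd i j hij
    -- a third index
    obtain ⟨k, hki, hkj⟩ : ∃ k : Fin n, k ≠ i ∧ k ≠ j := by
      by_contra hcon
      push Not at hcon
      have hcard : (Finset.univ : Finset (Fin n)) ⊆ {i, j} := by
        intro k _
        by_cases h : k = i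
        · simp [h]
        · simp [hcon k h]
      have := Finset.card_le_card hcard
      rw [Finset.card_univ, Fintype.card_fin] at this
      have h3 : ({i, j} : Finset (Fin n)).card ≤ 2 := Finset.card_le_two
      omega
    have hsg : Equiv.Perm.sign (Equiv.swap i j * Equiv.swap j k : Equiv.Perm (Fin n)) = 1 := by
      rw [map_mul, Equiv.Perm.sign_swap hij, Equiv.Perm.sign_swap hkj.symm]; simp
    obtain ⟨c, hc⟩ := hpm _ hsg
    have hcz : z * c = c * z := (mem_center_iff.1 hz c).symm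
    have h1 : ((f z : Matrix.SpecialLinearGroup (Fin n) F) : Matrix (Fin n) (Fin n) F) *
        ((f c : Matrix.SpecialLinearGroup (Fin n) F) : Matrix (Fin n) (Fin n) F) =
        ((f c : Matrix.SpecialLinearGroup (Fin n) F) : Matrix (Fin n) (Fin n) F) *
        ((f z : Matrix.SpecialLinearGroup (Fin n) F) : Matrix (Fin n) (Fin n) F) := by
      rw [← Matrix.SpecialLinearGroup.coe_mul, ← Matrix.SpecialLinearGroup.coe_mul, ← map_mul, ← map_mul, hcz]
    rw [hc, coe_pm, hzd] at h1
    have h2 := comm_perm h1 i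
    rw [Equiv.Perm.mul_apply, Equiv.swap_apply_of_ne_of_ne hij hki.symm, Equiv.swap_apply_left] at h2
    exact h2
  -- scalar elements are central
  have hsc : ∀ (z : G) (s : F), ((f z : Matrix.SpecialLinearGroup (Fin n) F) : Matrix (Fin n) (Fin n) F) =
      Matrix.diagonal (fun _ => s) → z ∈ center G := by
    intro z s hz
    rw [mem_center_iff]
    intro g
    apply hf
    rw [map_mul, map_mul]
    apply Subtype.ext
    show ((f g : Matrix.SpecialLinearGroup (Fin n) F) : Matrix (Fin n) (Fin n) F) *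
        ((f z : Matrix.SpecialLinearGroup (Fin n) F) : Matrix (Fin n) (Fin n) F) =
        ((f z : Matrix.SpecialLinearGroup (Fin n) F) : Matrix (Fin n) (Fin n) F) *
        ((f g : Matrix.SpecialLinearGroup (Fin n) F) : Matrix (Fin n) (Fin n) F)
    rw [hz]
    ext i j
    rw [Matrix.mul_diagonal, Matrix.diagonal_mul, mul_comm]
  -- powers of diagonal elements
  have hpw : ∀ (x : G) (d : Fin n → F), ((f x : Matrix.SpecialLinearGroup (Fin n) F) : Matrix (Fin n) (Fin n) F) =
      Matrix.diagonal d → ∀ k : ℕ, ((f (x ^ k) : Matrix.SpecialLinearGroup (Fin n) F) :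
        Matrix (Fin n) (Fin n) F) = Matrix.diagonal (d ^ k) := by
    intro x d hx k
    rw [map_pow, Matrix.SpecialLinearGroup.coe_pow, hx, Matrix.diagonal_pow]
  have hpow1 : ∀ i j : Fin n, (dv i j u) ^ p = fun _ => 1 := by
    intro i j
    funext k
    rw [Pi.pow_apply]
    unfold dv
    split_ifs
    · exact hup
    · rw [inv_pow, hup, inv_one]
    · rw [one_pow]
  obtain ⟨a, ha⟩ := hd i1 i2 h12
  have ha' : ((f a : Matrix.SpecialLinearGroup (Fin n) F) : Matrix (Fin n) (Fin n) F) =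
      Matrix.diagonal (dv i1 i2 u) := by rw [ha]; rfl
  have hac : a ∉ center G := by
    intro h
    have := hcen a _ h ha' i0 i1 h01
    rw [dv_other h01 h02, dv_left] at this
    exact hu1 this.symm
  have hapc : a ^ p ∈ center G := hsc _ 1 (by rw [hpw a _ ha', hpow1])
  by_cases hcase : p = 3 ∧ n = 3
  · obtain ⟨rfl, rfl⟩ := hcase
    have hsg : Equiv.Perm.sign (Equiv.swap i0 i1 * Equiv.swap i1 i2 : Equiv.Perm (Fin 3)) = 1 := by
      rw [map_mul, Equiv.Perm.sign_swap h01, Equiv.Perm.sign_swap h12]; simp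
    obtain ⟨b, hb⟩ := hpm _ hsg
    have hu3 : u⁻¹ = u * u := by
      apply mul_left_cancel₀ hu0
      rw [mul_inv_cancel₀ hu0, ← hup]; ring
    have hb' : ((f b : Matrix.SpecialLinearGroup (Fin 3) F) : Matrix (Fin 3) (Fin 3) F) =
        (Equiv.swap i0 i1 * Equiv.swap i1 i2 : Equiv.Perm (Fin 3)).permMatrix F := by rw [hb]; rfl
    have hσ0 : (Equiv.swap i0 i1 * Equiv.swap i1 i2 : Equiv.Perm (Fin 3)) i0 = i1 :=
      (by decide : (Equiv.swap (0 : Fin 3) 1 * Equiv.swap 1 2 : Equiv.Perm (Fin 3)) 0 = 1)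
    have hσ3 : (Equiv.swap i0 i1 * Equiv.swap i1 i2 : Equiv.Perm (Fin 3)) ^ 3 = 1 :=
      (by decide : (Equiv.swap (0 : Fin 3) 1 * Equiv.swap 1 2 : Equiv.Perm (Fin 3)) ^ 3 = 1)
    have hσ : ∀ i j : Fin 3, (Equiv.swap i0 i1 * Equiv.swap i1 i2 : Equiv.Perm (Fin 3)) i = j ↔
        (i = 0 ∧ j = 1) ∨ (i = 1 ∧ j = 2) ∨ (i = 2 ∧ j = 0) :=
      (by decide : ∀ i j : Fin 3, (Equiv.swap (0 : Fin 3) 1 * Equiv.swap 1 2 : Equiv.Perm (Fin 3)) i = j ↔
        (i = 0 ∧ j = 1) ∨ (i = 1 ∧ j = 2) ∨ (i = 2 ∧ j = 0))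
    have hdv : ∀ i : Fin 3, dv i1 i2 u i = if i = 0 then 1 else if i = 1 then u else u⁻¹ := by
      intro i
      fin_cases i
      · simp [dv, i1, i2]
      · simp [dv, i1, i2]
      · simp [dv, i1, i2]
    refine nc_quot (a := a) (b := b) hapc ?_ hac ?_ ?_
    · apply hsc _ 1
      rw [map_pow, Matrix.SpecialLinearGroup.coe_pow, hb', pow_three, ← Matrix.permMatrix_mul,
        ← Matrix.permMatrix_mul]
      rw [pow_three, ← mul_assoc] at hσ3
      rw [hσ3]
      simp
    · -- the commutator is a scalar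
      apply hsc _ u⁻¹
      have h1 : ((f (a * b) : Matrix.SpecialLinearGroup (Fin 3) F) : Matrix (Fin 3) (Fin 3) F) =
          Matrix.diagonal (fun _ => u⁻¹) *
            ((f (b * a) : Matrix.SpecialLinearGroup (Fin 3) F) : Matrix (Fin 3) (Fin 3) F) := by
        rw [map_mul, map_mul, Matrix.SpecialLinearGroup.coe_mul, Matrix.SpecialLinearGroup.coe_mul, ha', hb']
        ext i j
        rw [Matrix.diagonal_mul, Matrix.diagonal_mul, Matrix.mul_diagonal]
        have h3 : ((Equiv.swap i0 i1 * Equiv.swap i1 i2 : Equiv.Perm (Fin 3)).permMatrix F) i j =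
            if (Equiv.swap i0 i1 * Equiv.swap i1 i2 : Equiv.Perm (Fin 3)) i = j then 1 else 0 := by
          simp [Equiv.Perm.permMatrix, PEquiv.toMatrix_apply, eq_comm]
        rw [h3]
        by_cases h4 : (Equiv.swap i0 i1 * Equiv.swap i1 i2 : Equiv.Perm (Fin 3)) i = j
        · rw [if_pos h4, mul_one, one_mul, hdv, hdv]
          rcases (hσ i j).1 h4 with ⟨rfl, rfl⟩ | ⟨rfl, rfl⟩ | ⟨rfl, rfl⟩
          · simp [hu0]
          · simp [hu3]
            calc u = u ^ 3 * u := by rw [hup, one_mul]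
              _ = u * u * (u * u) := by ring
          · simp
        · rw [if_neg h4, mul_zero, zero_mul, mul_zero]
      have h2 : a * b * a⁻¹ * b⁻¹ = (a * b) * (b * a)⁻¹ := by group
      rw [h2, map_mul, Matrix.SpecialLinearGroup.coe_mul, h1, Matrix.mul_assoc,
        ← Matrix.SpecialLinearGroup.coe_mul, ← map_mul, mul_inv_cancel, map_one,
        Matrix.SpecialLinearGroup.coe_one, Matrix.mul_one]
    · intro k hk
      have h1 : b * a = a * b := by
        have h2 := mem_center_iff.1 hk a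
        have h3 : a ^ k * (a * b) = a ^ k * (b * a) := by
          rw [← mul_assoc, ← pow_succ, pow_succ', mul_assoc, h2, mul_assoc]
        exact (mul_left_cancel h3).symm
      have h2 : Matrix.diagonal (dv i1 i2 u) * (Equiv.swap i0 i1 * Equiv.swap i1 i2 : Equiv.Perm (Fin 3)).permMatrix F =
          (Equiv.swap i0 i1 * Equiv.swap i1 i2 : Equiv.Perm (Fin 3)).permMatrix F * Matrix.diagonal (dv i1 i2 u) := by
        rw [← ha', ← hb', ← Matrix.SpecialLinearGroup.coe_mul, ← Matrix.SpecialLinearGroup.coe_mul, ← map_mul,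
          ← map_mul, h1]
      have h3 := comm_perm h2 i0
      rw [hσ0, dv_other h01 h02, dv_left] at h3
      exact hu1 h3.symm
  · have hu3 : u ^ 3 = 1 → n = 3 → False := by
      intro h3 hn3
      have h4 := pow_eq_one_cases hp.out hup hu1 h3
      have h5 := (Nat.prime_dvd_prime_iff_eq hp.out Nat.prime_three).1 h4
      exact hcase ⟨h5, hn3⟩
    obtain ⟨b, hb⟩ := hd i0 i1 h01
    have hb' : ((f b : Matrix.SpecialLinearGroup (Fin n) F) : Matrix (Fin n) (Fin n) F) =
        Matrix.diagonal (dv i0 i1 u) := by rw [hb]; rfl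
    have hab : a * b = b * a := by
      apply hf
      rw [map_mul, map_mul]
      apply Subtype.ext
      show ((f a : Matrix.SpecialLinearGroup (Fin n) F) : Matrix (Fin n) (Fin n) F) *
        ((f b : Matrix.SpecialLinearGroup (Fin n) F) : Matrix (Fin n) (Fin n) F) =
        ((f b : Matrix.SpecialLinearGroup (Fin n) F) : Matrix (Fin n) (Fin n) F) *
        ((f a : Matrix.SpecialLinearGroup (Fin n) F) : Matrix (Fin n) (Fin n) F)
      rw [ha', hb', Matrix.diagonal_mul_diagonal, Matrix.diagonal_mul_diagonal]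
      congr 1
      funext k
      exact mul_comm _ _
    refine nc_quot (a := a) (b := b) hapc (hsc _ 1 (by rw [hpw b _ hb', hpow1])) hac ?_ ?_
    · rw [hab, mul_assoc b a, mul_inv_cancel, mul_one, mul_inv_cancel]
      exact one_mem _
    · intro k hk
      have h1 : ((f (a ^ k * b) : Matrix.SpecialLinearGroup (Fin n) F) : Matrix (Fin n) (Fin n) F) =
          Matrix.diagonal (fun l => (dv i1 i2 u l) ^ k * dv i0 i1 u l) := by
        rw [map_mul, Matrix.SpecialLinearGroup.coe_mul, hpw a _ ha', hb', Matrix.diagonal_mul_diagonal]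
        rfl
      have e1 := hcen _ _ hk h1 i0 i1 h01
      have e2 := hcen _ _ hk h1 i0 i2 h02
      simp only [dv_left, dv_right h01, dv_right h12, dv_other h01 h02, dv_other h02.symm h12.symm, one_pow,
        one_mul, mul_one] at e1 e2
      -- `u = u ^ k * u⁻¹`, `u = u⁻¹ ^ k`
      by_cases hn3 : n = 3
      · apply hu3 _ hn3
        have e3 : u ^ k = u * u := by
          calc u ^ k = (u ^ k * u⁻¹) * u := by rw [mul_assoc, inv_mul_cancel₀ hu0, mul_one]
            _ = u * u := by rw [← e1]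
        have e4 : u * (u ^ k) = 1 := by
          calc u * (u ^ k) = u⁻¹ ^ k * u ^ k := by rw [← e2]
            _ = 1 := by rw [← mul_pow, inv_mul_cancel₀ hu0, one_pow]
        rw [e3] at e4
        rw [← e4]; ring
      · let i3 : Fin n := ⟨3, by omega⟩
        have e3 := hcen _ _ hk h1 i0 i3 (by simp [i0, i3, Fin.ext_iff])
        rw [dv_other (k := i3) (by simp [i1, i3, Fin.ext_iff]) (by simp [i2, i3, Fin.ext_iff]),
          dv_other (k := i3) (by simp [i0, i3, Fin.ext_iff]) (by simp [i1, i3, Fin.ext_iff]),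
          dv_other h01 h02, dv_left, one_pow, one_mul, one_mul] at e3
        exact hu1 e3

/-- an element of order `p` of the multiplicative group -/
theorem exists_unit [Fintype F] {p : ℕ} [hp : Fact p.Prime] (h : p ∣ Fintype.card F - 1) :
    ∃ u : F, u ^ p = 1 ∧ u ≠ 1 ∧ u ≠ 0 := by
  have h1 : p ∣ Nat.card Fˣ := by rwa [Nat.card_units, Nat.card_eq_fintype_card]
  obtain ⟨u, hu⟩ := exists_prime_orderOf_dvd_card' p h1
  refine ⟨u, ?_, ?_, u.ne_zero⟩
  · rw [← hu, ← Units.val_pow_eq_pow_val, pow_orderOf_eq_one, Units.val_one]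
  · intro h2
    have h3 : u = 1 := Units.ext h2
    rw [h3, orderOf_one] at hu
    exact hp.out.one_lt.ne hu

/-- **The split linear groups.** -/
theorem psl [Fintype F] {p : ℕ} [hp : Fact p.Prime] (hp2 : p ≠ 2) (hn : 3 ≤ n) (h : p ∣ Fintype.card F - 1) :
    NC p (Matrix.ProjectiveSpecialLinearGroup (Fin n) F) := by
  obtain ⟨u, h1, h2, h3⟩ := exists_unit (F := F) h
  exact core hp2 hn h1 h2 h3 (MonoidHom.id _) (fun _ _ h => h) (fun i j hij => ⟨dg hij h3, rfl⟩)
    (fun σ hσ => ⟨pm F σ hσ, rfl⟩)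

theorem dv_pow_succ {q : ℕ} {u : F} (hu : u ^ (q + 1) = 1) (i j k : Fin n) : dv i j u k * dv i j u k ^ q = 1 := by
  rw [← pow_succ']
  unfold dv
  split_ifs
  · exact hu
  · rw [inv_pow, hu, inv_one]
  · rw [one_pow]

/-- **The split unitary groups.** -/
theorem psu [Fintype F] {q p : ℕ} [hp : Fact p.Prime] (hF : Fintype.card F = q ^ 2) (hp2 : p ≠ 2) (hn : 3 ≤ n)
    (h : p ∣ q + 1) : NC p (Cfsg.PSU n F q) := by
  obtain ⟨u, h1, h2, h3⟩ := exists_unit (F := F) (p := p) (by
    rw [hF]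
    have : q ^ 2 - 1 = (q + 1) * (q - 1) := by
      have := Nat.sq_sub_sq q 1
      simpa using this
    rw [this]
    exact Dvd.dvd.mul_right h _)
  have h4 : u ^ (q + 1) = 1 := by
    obtain ⟨c, hc⟩ := h
    rw [hc, pow_mul, h1, one_pow]
  refine core hp2 hn h1 h2 h3 (Cfsg.SU n F q).subtype (Subtype.val_injective) (fun i j hij => ?_)
    (fun σ hσ => ?_)
  · refine ⟨⟨dg hij h3, ?_⟩, rfl⟩
    intro v w
    show Cfsg.hermForm n F q (Matrix.diagonal (dv i j u) *ᵥ v) (Matrix.diagonal (dv i j u) *ᵥ w) = _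
    unfold Cfsg.hermForm
    refine Finset.sum_congr rfl fun k _ => ?_
    rw [Matrix.mulVec_diagonal, Matrix.mulVec_diagonal, mul_pow]
    calc dv i j u k * v k * (dv i j u k ^ q * w k ^ q) = (dv i j u k * dv i j u k ^ q) * (v k * w k ^ q) := by ring
      _ = v k * w k ^ q := by rw [dv_pow_succ h4, one_mul]
  · refine ⟨⟨pm F σ hσ, ?_⟩, rfl⟩
    intro v w
    show Cfsg.hermForm n F q (σ.permMatrix F *ᵥ v) (σ.permMatrix F *ᵥ w) = _
    unfold Cfsg.hermForm
    rw [Matrix.permMatrix_mulVec, Matrix.permMatrix_mulVec]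
    exact Equiv.sum_comp σ (fun k => v k * w k ^ q)

end Lin

end Cfsg.Agent.H124.SplitNC
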