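import Cfsg.Agent.H124.SplitNCSp
import Cfsg.Agent.H104.OrthEmb

/-!
# Noncyclic Sylow subgroups of the orthogonal groups (helper124)

`pomega_odd`, `pomega_plus`, `pomega_minus`: `p` odd, `p ∣ q ^ 2 - 1`: the Sylow `p`-subgroups of
`PΩ_{2m+1}(q)` (`m ≥ 3`), `PΩ⁺_{2m}(q)` (`m ≥ 3`) and `PΩ⁻_{2m}(q)` (`m ≥ 4`) are not cyclic.
-/

set_option autoImplicit false

namespace Cfsg.Agent.H124.SplitNC

open Subgroup Cfsg.Agent.H123.SpNC QuadraticMap
open Cfsg.Agent.LieClassical
open scoped Matrix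

section Four

variable {F : Type*} [Field F]

/-- `SL₂ × SL₂` in `SL₄` -/
def slFour (F : Type*) [Field F] : (Fin 2 → Matrix.SpecialLinearGroup (Fin 2) F) →* Matrix.SpecialLinearGroup (Fin 4) F where
  toFun g := ⟨(Matrix.blockDiagonal fun k => (g k : Matrix (Fin 2) (Fin 2) F)).submatrix
    (finProdFinEquiv (m := 2) (n := 2)).symm (finProdFinEquiv (m := 2) (n := 2)).symm, by
      rw [Matrix.det_submatrix_equiv_self, Matrix.det_blockDiagonal]
      exact Finset.prod_eq_one fun k _ => (g k).2⟩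
  map_one' := by
    apply Subtype.ext
    show (Matrix.blockDiagonal (1 : Fin 2 → Matrix (Fin 2) (Fin 2) F)).submatrix
      (finProdFinEquiv (m := 2) (n := 2)).symm (finProdFinEquiv (m := 2) (n := 2)).symm = 1
    rw [Matrix.blockDiagonal_one, Matrix.submatrix_one_equiv]
  map_mul' g h := by
    apply Subtype.ext
    show (Matrix.blockDiagonal fun k => (g k : Matrix (Fin 2) (Fin 2) F) * (h k : Matrix (Fin 2) (Fin 2) F)).submatrix
      (finProdFinEquiv (m := 2) (n := 2)).symm (finProdFinEquiv (m := 2) (n := 2)).symm =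
      (Matrix.blockDiagonal fun k => (g k : Matrix (Fin 2) (Fin 2) F)).submatrix
        (finProdFinEquiv (m := 2) (n := 2)).symm (finProdFinEquiv (m := 2) (n := 2)).symm *
      (Matrix.blockDiagonal fun k => (h k : Matrix (Fin 2) (Fin 2) F)).submatrix
        (finProdFinEquiv (m := 2) (n := 2)).symm (finProdFinEquiv (m := 2) (n := 2)).symm
    rw [Matrix.blockDiagonal_mul, Matrix.submatrix_mul_equiv]

theorem slFour_injective : Function.Injective (slFour F) := by
  rw [injective_iff_map_eq_one]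
  intro g hg
  have h1 : (Matrix.blockDiagonal fun k => (g k : Matrix (Fin 2) (Fin 2) F)).submatrix
    (finProdFinEquiv (m := 2) (n := 2)).symm (finProdFinEquiv (m := 2) (n := 2)).symm = 1 := congrArg Subtype.val hg
  funext k
  apply Subtype.ext
  ext i j
  have h2 := congrFun (congrFun h1 (finProdFinEquiv (m := 2) (n := 2) (i, k)))
    (finProdFinEquiv (m := 2) (n := 2) (j, k))
  rw [Matrix.submatrix_apply, Equiv.symm_apply_apply, Equiv.symm_apply_apply, Matrix.blockDiagonal_apply_eq] at h2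
  rw [h2]
  by_cases hij : i = j
  · subst hij
    rw [Matrix.one_apply_eq]
    exact (Matrix.one_apply_eq i).symm
  · rw [Matrix.one_apply_ne]
    · exact (Matrix.one_apply_ne hij).symm
    · intro h
      have := (finProdFinEquiv (m := 2) (n := 2)).injective h
      exact hij (Prod.ext_iff.1 this).1

end Four

section Orth

variable {F : Type} [Field F] [Fintype F] {ι : Type} [Fintype ι] [DecidableEq ι]

/-- the general orthogonal statement -/
theorem pomega {Q : QuadraticForm F (ι → F)} (hQ : (polarBilin Q).Nondegenerate)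
    (hn : 3 ≤ Fintype.card ι) (hs : ∃ u : ι → F, u ≠ 0 ∧ Q u = 0) {w : ℕ} (hw : 3 ≤ w)
    (hemb : ∃ f : Cfsg.isometryGroup F (Cfsg.quadFormPlus w F) →* Cfsg.isometryGroup F (⇑Q),
      Function.Injective f) {p : ℕ} [hp : Fact p.Prime] (hp2 : p ≠ 2)
    (h : p ∣ Fintype.card F ^ 2 - 1) : NC p (Cfsg.POmega F (⇑Q)) := by
  obtain ⟨f, hf⟩ := hemb
  obtain ⟨f₁, hf₁⟩ := H104.OrthEmb.exists_klein (F := F) hp.out hp2
  obtain ⟨f₂, hf₂⟩ := H104.OrthEmb.exists_emb_plus (F := F) hw
  obtain ⟨x, hx⟩ := exists_sl2 (F := F) h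
  let f' : Matrix.SpecialLinearGroup (Fin 4) F →* Cfsg.isometryGroup F (⇑Q) := (f.comp f₂).comp f₁
  have hmem : ∀ x : Matrix.SpecialLinearGroup (Fin 4) F, f' x ∈ Cfsg.Omega F (⇑Q) := by
    intro x
    have h1 : x ∈ commutator (Matrix.SpecialLinearGroup (Fin 4) F) := by
      rw [SLGen.commutator_eq_top (by simp)]; exact Subgroup.mem_top x
    have h2 : f' x ∈ (commutator (Matrix.SpecialLinearGroup (Fin 4) F)).map f' := ⟨x, h1, rfl⟩
    have h3 : (commutator (Matrix.SpecialLinearGroup (Fin 4) F)).map f' ≤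
        commutator (Cfsg.isometryGroup F (⇑Q)) := by
      rw [commutator_def, commutator_def, Subgroup.map_commutator]
      exact Subgroup.commutator_mono le_top le_top
    exact h3 h2
  let f'' : Matrix.SpecialLinearGroup (Fin 4) F →* Cfsg.Omega F (⇑Q) := f'.codRestrict _ hmem
  refine nc_pow hx (show (0 : Fin 2) ≠ 1 by decide)
    (((QuotientGroup.mk' (Subgroup.center (Cfsg.Omega F (⇑Q)))).comp f'').comp (slFour F)) ?_
  intro g hg h1
  have h2 := H104.OrthEmb.center_free hQ hn hs hp.out hp2 (f'' (slFour F g)) (by rw [← map_pow, ← map_pow, hg,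
    map_one, map_one]) h1
  have h3 : f' (slFour F g) = 1 := congrArg Subtype.val h2
  have h4 : f₁ (slFour F g) = 1 := by
    apply hf₂
    apply hf
    rw [map_one, map_one]
    exact h3
  have h5 := hf₁ (slFour F g) (by rw [← map_pow, hg, map_one]) h4
  exact slFour_injective (by rw [h5, map_one])

/-- **`PΩ_{2m+1}(q)`, `q` odd.** -/
theorem pomega_odd {m : ℕ} (hm : 3 ≤ m) (h2 : (2 : F) ≠ 0) {p : ℕ} [hp : Fact p.Prime] (hp2 : p ≠ 2)
    (h : p ∣ Fintype.card F ^ 2 - 1) : NC p (Cfsg.POmega F (Cfsg.quadFormOdd m F)) := by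
  have key := @pomega F _ _ _ _ _ (OmegaReindex.quadOdd m F) (OmegaReindex.quadOdd_nondegenerate h2)
    (by simp; omega) (OmegaReindex.quadOdd_isotropic (by omega)) m hm (by
      rw [OmegaReindex.coe_quadOdd]
      exact H104.OrthEmb.exists_emb_odd m) p _ hp2 h
  rw [OmegaReindex.coe_quadOdd] at key
  exact key

/-- **`PΩ⁺_{2m}(q)`.** -/
theorem pomega_plus {m : ℕ} (hm : 3 ≤ m) {p : ℕ} [hp : Fact p.Prime] (hp2 : p ≠ 2)
    (h : p ∣ Fintype.card F ^ 2 - 1) : NC p (Cfsg.POmega F (Cfsg.quadFormPlus m F)) := by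
  have key := @pomega F _ _ _ _ _ (OmegaReindex.quadPlus m F) OmegaReindex.quadPlus_nondegenerate
    (by simp; omega) (OmegaReindex.quadPlus_isotropic (by omega)) m hm (by
      rw [OmegaReindex.coe_quadPlus]
      exact ⟨MonoidHom.id _, fun _ _ h => h⟩) p _ hp2 h
  rw [OmegaReindex.coe_quadPlus] at key
  exact key

/-- **`PΩ⁻_{2m}(q)`.** -/
theorem pomega_minus {m : ℕ} (hm : 4 ≤ m) (a b : F)
    (hab : ∀ z₁ z₂ : F, z₁ ^ 2 + a * z₁ * z₂ + b * z₂ ^ 2 = 0 → z₁ = 0 ∧ z₂ = 0)
    {p : ℕ} [hp : Fact p.Prime] (hp2 : p ≠ 2)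
    (h : p ∣ Fintype.card F ^ 2 - 1) : NC p (Cfsg.POmega F (Cfsg.quadFormMinus (m - 1) F a b)) := by
  have key := @pomega F _ _ _ _ _ (OmegaReindex.quadMinus (m - 1) F a b)
    (OmegaReindex.quadMinus_nondegenerate hab)
    (by simp; omega) (OmegaReindex.quadMinus_isotropic (by omega) a b) (m - 1) (by omega) (by
      rw [OmegaReindex.coe_quadMinus]
      exact H104.OrthEmb.exists_emb_minus (m - 1) a b) p _ hp2 h
  rw [OmegaReindex.coe_quadMinus] at key
  exact key

end Orth

end Cfsg.Agent.H124.SplitNC
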