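import Cfsg.Agent.CharactersDeep.QuatSylow

/-!
# Fixed cosets of an element of prime power order (helper124)

* `card_dvd_of_free` : the order of a group divides the size of a set on which it acts freely;
* `exists_fixed` : `y ^ (r ^ a) = 1`, `r ^ a ∤ #(T : P)`: `y ^ (r ^ (a - 1))` fixes a coset of `P`.
-/

set_option autoImplicit false

namespace Cfsg.Agent.H124.RegCyc

open Subgroup

theorem card_dvd_of_free {A X : Type*} [Group A] [Finite A] [Finite X] [MulAction A X]
    (h : ∀ (a : A) (x : X), a • x = x → a = 1) : Nat.card A ∣ Nat.card X := by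
  classical
  have := Fintype.ofFinite X
  have := Fintype.ofFinite (Quotient (MulAction.orbitRel A X))
  rw [Nat.card_congr (MulAction.selfEquivSigmaOrbitsQuotientStabilizer A X), Nat.card_sigma]
  apply Finset.dvd_sum
  intro ω _
  have h1 : MulAction.stabilizer A ω.out = ⊥ := by
    rw [eq_bot_iff]
    intro a ha
    rw [mem_bot]
    exact h a _ ha
  rw [h1]
  have h2 : Nat.card (A ⧸ (⊥ : Subgroup A)) = Nat.card A := by
    change (⊥ : Subgroup A).index = _
    rw [index_bot]
  rw [h2]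

theorem exists_fixed {T : Type*} [Group T] [Finite T] (P : Subgroup T) {r a : ℕ} (hr : r.Prime) (ha : 0 < a) {y : T}
    (hy : y ^ (r ^ a) = 1) (hd : ¬ r ^ a ∣ P.index) : ∃ t : T, t⁻¹ * y ^ (r ^ (a - 1)) * t ∈ P := by
  have : Fact r.Prime := ⟨hr⟩
  by_contra hcon
  push Not at hcon
  obtain ⟨b, rfl⟩ : ∃ b, a = b + 1 := ⟨a - 1, by omega⟩
  rw [Nat.add_sub_cancel] at hcon
  have hg1 : y ^ r ^ b ≠ 1 := by
    intro h
    apply hcon 1
    rw [h]; simp
  have hord : orderOf y = r ^ (b + 1) := orderOf_eq_prime_pow hg1 hy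
  have hg : orderOf (y ^ r ^ b) = r := by
    have h1 : (y ^ r ^ b) ^ r = 1 := by rw [← pow_mul, ← pow_succ, hy]
    exact orderOf_eq_prime h1 hg1
  apply hd
  have hcard : Nat.card (zpowers y) = r ^ (b + 1) := by rw [Nat.card_zpowers, hord]
  rw [← hcard, index]
  apply card_dvd_of_free
  rintro ⟨z, hz⟩ x hx
  obtain ⟨t, rfl⟩ := QuotientGroup.mk_surjective x
  by_contra hz1
  have hz1' : z ≠ 1 := fun h => hz1 (Subtype.ext h)
  have h1 : Nat.card (zpowers (y ^ r ^ b)) ∣ Nat.card (zpowers z) := by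
    rw [Nat.card_zpowers, Nat.card_zpowers, hg]
    have h2 : orderOf z ∣ r ^ (b + 1) := by
      rw [← hord]
      exact orderOf_dvd_of_mem_zpowers hz
    obtain ⟨c, -, hc⟩ := (Nat.dvd_prime_pow hr).1 h2
    rw [hc]
    apply dvd_pow_self
    rintro rfl
    rw [pow_zero, orderOf_eq_one_iff] at hc
    exact hz1' hc
  have h3 := Cfsg.Agent.CharactersDeep.QuatSylow.le_of_card_dvd_of_le_cyclic (W := zpowers y) inferInstance
    (zpowers_le.2 (npow_mem_zpowers y _)) (zpowers_le.2 hz) h1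
  have h4 : y ^ r ^ b ∈ zpowers z := h3 (mem_zpowers _)
  have h5 : t⁻¹ * z * t ∈ P := by
    have h6 : ((z * t : T) : T ⧸ P) = (t : T ⧸ P) := hx
    rw [eq_comm, QuotientGroup.eq] at h6
    rwa [mul_assoc]
  apply hcon t
  have h7 : zpowers z ≤ P.map (MulAut.conj t).toMonoidHom := by
    rw [zpowers_le]
    exact ⟨_, h5, by simp only [MulEquiv.coe_toMonoidHom, MulAut.conj_apply]; group⟩
  obtain ⟨p, hp, hpt⟩ := h7 h4
  rw [← hpt]
  have : t⁻¹ * (MulAut.conj t).toMonoidHom p * t = p := by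
    simp only [MulEquiv.coe_toMonoidHom, MulAut.conj_apply]; group
  rw [this]
  exact hp

end Cfsg.Agent.H124.RegCyc
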