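import Cfsg.Agent.H124.RegBase
import Cfsg.Agent.H124.RegCyc

/-!
# Primitive groups with a regular subgroup containing a simple group with a cyclic Sylow subgroup (helper124)

`Hyp B S r a` : `G` primitive and faithful on `Ω`, `B` regular, `S ≤ B` simple, `r` an odd prime, `r ^ a` the `r`-part of
`#S` and of `#B`, `y ∈ S` of order `r ^ a`, and all simple subgroups of `G` have the Schreier property.
* `Hyp.main` : `G` is almost simple, or has a normal subgroup `N ≅ T × T`, `C(N) = 1`, `#T = #B` and `S` embeds in `T`.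
-/

set_option autoImplicit false
set_option linter.unusedSectionVars false
set_option linter.unusedVariables false

namespace Cfsg.Agent.H124.RegMain

open Subgroup MulAction Cfsg.Agent.Schreier.Basic Cfsg.Agent.H124.OSCoord

variable {G : Type*} [Group G] [Finite G] {Ω : Type*} [MulAction G Ω] [FaithfulSMul G Ω] [Finite Ω]

/-! ### primitive groups -/

section Prim

variable [hprim : IsPreprimitive G Ω]

omit [Finite Ω] in
omit [Finite G] in
theorem trans_of_normal (N : Subgroup G) [N.Normal] (hN : N ≠ ⊥) (x y : Ω) : ∃ n ∈ N, n • x = y := by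
  have hfix : fixedPoints N Ω ≠ Set.univ := by
    intro h
    apply hN
    rw [eq_bot_iff]
    intro n hn
    rw [mem_bot]
    apply eq_of_smul_eq_smul (α := Ω)
    intro y
    have hy : y ∈ fixedPoints N Ω := by rw [h]; exact Set.mem_univ y
    rw [one_smul]
    exact hy ⟨n, hn⟩
  have htr : IsPretransitive N Ω := IsQuasiPreprimitive.isPretransitive_of_normal hfix
  obtain ⟨n, hn⟩ := exists_smul_eq N x y
  exact ⟨n, n.2, hn⟩

theorem card_eq (N : Subgroup G) [N.Normal] (hN : N ≠ ⊥) (ω : Ω) :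
    Nat.card N = Nat.card Ω * Nat.card ↥(stabilizer G ω ⊓ N) := by
  have htr : IsPretransitive N Ω := ⟨fun x y => by
    obtain ⟨n, hn, h⟩ := trans_of_normal N hN x y
    exact ⟨⟨n, hn⟩, h⟩⟩
  have h1 := index_stabilizer_of_transitive N ω
  have h2 := (stabilizer N ω).card_mul_index
  rw [h1] at h2
  rw [← h2, mul_comm]
  congr 1
  refine Nat.card_congr ⟨fun x => ⟨x.1, x.2, x.1.2⟩, fun x => ⟨⟨x.1, x.2.2⟩, x.2.1⟩, fun x => rfl, fun x => rfl⟩

/-- a normal subgroup commuting with a nontrivial normal subgroup is semiregular -/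
theorem stab_inf_centralizer (N : Subgroup G) [N.Normal] (hN : N ≠ ⊥) (ω : Ω) {C : Subgroup G}
    (hC : C ≤ centralizer (N : Set G)) : stabilizer G ω ⊓ C = ⊥ := by
  rw [eq_bot_iff]
  rintro c ⟨hc1, hc2⟩
  rw [mem_bot]
  apply eq_of_smul_eq_smul (α := Ω)
  intro y
  obtain ⟨n, hn, rfl⟩ := trans_of_normal N hN ω y
  have h1 : n * c = c * n := (mem_centralizer_iff.1 (hC hc2)) n hn
  have h2 : c • ω = ω := hc1
  rw [one_smul, smul_smul, ← h1, mul_smul, h2]

theorem max_inv (N : Subgroup G) [N.Normal] (hΩ : Nontrivial Ω) (ω : Ω) (X : Subgroup G) (hX : X ≤ N)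
    (hKX : stabilizer G ω ⊓ N ≤ X) (hinv : stabilizer G ω ≤ normalizer (X : Set G)) :
    X = stabilizer G ω ⊓ N ∨ X = N := by
  have hco := IsPreprimitive.isCoatom_stabilizer_of_isPreprimitive G ω
  let Y : Subgroup G :=
    { carrier := {g | ∃ k ∈ stabilizer G ω, ∃ x ∈ X, g = k * x}
      one_mem' := ⟨1, one_mem _, 1, one_mem _, by simp⟩
      mul_mem' := by
        rintro _ _ ⟨k, hk, x, hx, rfl⟩ ⟨k', hk', x', hx', rfl⟩
        refine ⟨k * k', mul_mem hk hk', (k'⁻¹ * x * k') * x', mul_mem ?_ hx', by group⟩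
        have h1 := (mem_normalizer_iff.1 (hinv (inv_mem hk'))) x
        have h2 := h1.1 hx
        rwa [inv_inv] at h2
      inv_mem' := by
        rintro _ ⟨k, hk, x, hx, rfl⟩
        refine ⟨k⁻¹, inv_mem hk, k * x⁻¹ * k⁻¹, ?_, by group⟩
        exact ((mem_normalizer_iff.1 (hinv hk)) x⁻¹).1 (inv_mem hx) }
  have hKY : stabilizer G ω ≤ Y := fun k hk => ⟨k, hk, 1, one_mem _, by simp⟩
  have hXY : X ≤ Y := fun x hx => ⟨1, one_mem _, x, hx, by simp⟩
  rcases eq_or_lt_of_le hKY with h | h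
  · left
    apply le_antisymm _ hKX
    refine le_inf ?_ hX
    rw [h]
    exact hXY
  · right
    have htop := hco.2 Y h
    apply le_antisymm hX
    intro n hn
    have hn' : n ∈ Y := by rw [htop]; exact mem_top n
    obtain ⟨k, hk, x, hx, rfl⟩ := hn'
    have h2 : k ∈ N := by
      have := mul_mem hn (inv_mem (hX hx))
      rwa [mul_inv_cancel_right] at this
    exact mul_mem (hKX ⟨hk, h2⟩) hx

/-- minimal normal subgroups exist -/
theorem exists_min (L : Subgroup G) [L.Normal] (hL : L ≠ ⊥) :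
    ∃ N : Subgroup G, N.Normal ∧ N ≤ L ∧ N ≠ ⊥ ∧ ∀ M : Subgroup G, M.Normal → M ≤ N → M = ⊥ ∨ M = N := by
  have hfin : {T : Subgroup G | T ≤ L ∧ T ≠ ⊥ ∧ T.Normal}.Finite := Set.toFinite _
  have hne : {T : Subgroup G | T ≤ L ∧ T ≠ ⊥ ∧ T.Normal}.Nonempty := ⟨L, le_rfl, hL, inferInstance⟩
  obtain ⟨N, hN⟩ := hfin.exists_minimal hne
  refine ⟨N, hN.1.2.2, hN.1.1, hN.1.2.1, fun M hM hMN => ?_⟩
  by_cases h : M = ⊥
  · exact Or.inl h
  · right
    exact le_antisymm hMN (hN.2 ⟨hMN.trans hN.1.1, h, hM⟩ hMN)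

end Prim

/-! ### the hypotheses -/

/-- The hypotheses. -/
structure Hyp (G : Type*) [Group G] (Ω : Type*) [MulAction G Ω] (B S : Subgroup G) (r a : ℕ) : Prop where
  prim : IsPreprimitive G Ω
  reg : ∀ b ∈ B, ∀ ω : Ω, b • ω = ω → b = 1
  card : Nat.card B = Nat.card Ω
  SB : S ≤ B
  simple : IsSimpleGroup S
  na : ¬ IsMulCommutative S
  hr : r.Prime
  hr2 : r ≠ 2
  ha : 0 < a
  vS : (Nat.card S).factorization r = a
  vB : (Nat.card B).factorization r = a
  cyc : ∃ y ∈ S, orderOf y = r ^ a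
  sch : ∀ T : Subgroup G, IsSimpleGroup T → ¬ IsMulCommutative T → Sch T

variable {B S : Subgroup G} {r a : ℕ}

/-- the conclusion -/
def Concl (G : Type*) [Group G] (B S : Subgroup G) : Prop :=
  (∃ N : Subgroup G, N.Normal ∧ IsSimpleGroup N ∧ ¬ IsMulCommutative N ∧ centralizer (N : Set G) = ⊥) ∨
  (∃ N : Subgroup G, N.Normal ∧ centralizer (N : Set G) = ⊥ ∧
    ∃ T : Subgroup G, IsSimpleGroup T ∧ ¬ IsMulCommutative T ∧ Nonempty (N ≃* T × T) ∧ Nat.card T = Nat.card B ∧
      ∃ f : S →* T, Function.Injective f)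

namespace Hyp

variable (H : Hyp G Ω B S r a)
include H

theorem one_lt_card : 1 < Nat.card Ω := by
  have := H.simple
  rw [← H.card]
  have h1 : 1 < Nat.card S := by
    have := H.simple.toNontrivial
    exact Finite.one_lt_card
  exact lt_of_lt_of_le h1 (Subgroup.card_le_of_le H.SB)

theorem nontrivial : Nontrivial Ω := Finite.one_lt_card_iff_nontrivial.1 H.one_lt_card

omit [FaithfulSMul G Ω] in
theorem vΩ : (Nat.card Ω).factorization r = a := by rw [← H.card, H.vB]

/-- a minimal normal subgroup is not abelian -/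
theorem nonabelian (N : Subgroup G) [N.Normal] (hN : N ≠ ⊥)
    (hmin : ∀ M : Subgroup G, M.Normal → M ≤ N → M = ⊥ ∨ M = N) : ¬ ∀ x ∈ N, ∀ y ∈ N, Commute x y := by
  intro hab
  have := H.prim
  have := H.nontrivial
  obtain ⟨p, hp, hpN, -⟩ := Cfsg.Agent.Lib.MinNormalNonabelian.abelian_structure N hN hmin hab
  have hpf : Fact p.Prime := ⟨hp⟩
  obtain ⟨ω⟩ : Nonempty Ω := inferInstance
  have h1 := card_eq (Ω := Ω) N hN ω
  obtain ⟨n, hn⟩ := hpN.exists_card_eq
  rw [hn] at h1
  have h2 : Nat.card B ∣ p ^ n := by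
    rw [H.card, h1]
    exact Dvd.intro _ rfl
  have h3 : Nat.card S ∣ p ^ n := (Subgroup.card_dvd_of_le H.SB).trans h2
  obtain ⟨k, -, hk⟩ := (Nat.dvd_prime_pow hp).1 h3
  have hpS : IsPGroup p S := IsPGroup.of_card hk
  have hS := H.simple
  have hnt : Nontrivial S := hS.toNontrivial
  have h4 := hpS.center_nontrivial
  rcases IsSimpleGroup.eq_bot_or_eq_top_of_normal (center S) inferInstance with h | h
  · exact (Subgroup.nontrivial_iff_ne_bot _).1 h4 h
  · apply H.na
    refine ⟨⟨fun x y => ?_⟩⟩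
    have : y ∈ center S := by rw [h]; exact mem_top y
    exact (mem_center_iff.1 this) x

end Hyp

/-! ### orders -/

section Orders

variable {N : Subgroup G} {m : ℕ} {T : Fin m → Subgroup G} {e : N ≃* (∀ i, T i)}

omit [Finite G] in
theorem card_T_eq (C : Coo N T e) (i j : Fin m) : Nat.card (T i) = Nat.card (T j) := by
  obtain ⟨g, hg⟩ := C.trans j i
  rw [hg]
  exact Nat.card_congr (Subgroup.equivMapOfInjective _ _ (MulAut.conj g).injective).toEquiv.symm

theorem card_N (C : Coo N T e) (i : Fin m) : Nat.card N = Nat.card (T i) ^ m := by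
  rw [Nat.card_congr e.toEquiv, Nat.card_pi, Finset.prod_congr rfl (fun j _ => card_T_eq C j i)]
  simp

theorem card_prod {K : Subgroup G} (P : ∀ i, Subgroup (T i))
    (h : ∀ n : N, (n : G) ∈ K ↔ ∀ i, e n i ∈ P i) : Nat.card ↥(K ⊓ N) = ∏ i, Nat.card (P i) := by
  rw [← Nat.card_pi]
  refine Nat.card_congr ⟨fun x => fun i => ⟨e ⟨x.1, x.2.2⟩ i, (h ⟨x.1, x.2.2⟩).1 x.2.1 i⟩,
    fun f => ⟨(e.symm (fun i => (f i).1) : N), ?_, (e.symm (fun i => (f i).1) : N).2⟩, fun x => ?_, fun f => ?_⟩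
  · refine (h _).2 fun i => ?_
    rw [MulEquiv.apply_symm_apply]
    exact (f i).2
  · apply Subtype.ext
    change ((e.symm (e ⟨x.1, x.2.2⟩) : N) : G) = x.1
    rw [MulEquiv.symm_apply_apply]
  · funext i
    apply Subtype.ext
    change e ⟨((e.symm (fun i => (f i).1) : N) : G), _⟩ i = (f i).1
    have : (⟨((e.symm (fun i => (f i).1) : N) : G), (e.symm (fun i => (f i).1) : N).2⟩ : N) =
      e.symm (fun i => (f i).1) := rfl
    rw [this, MulEquiv.apply_symm_apply]

theorem card_omega_prod (C : Coo N T e) {K : Subgroup G} (P : ∀ i, Subgroup (T i))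
    (h : ∀ n : N, (n : G) ∈ K ↔ ∀ i, e n i ∈ P i) (hidx : ∀ i j, (P i).index = (P j).index)
    (hc : Nat.card N = Nat.card Ω * Nat.card ↥(K ⊓ N)) (i : Fin m) : Nat.card Ω = (P i).index ^ m := by
  rw [card_prod P h, Nat.card_congr e.toEquiv, Nat.card_pi] at hc
  have h1 : ∀ j, Nat.card (T j) = Nat.card (P j) * (P i).index := fun j => by
    rw [← (P j).card_mul_index, hidx j i]
  rw [Finset.prod_congr rfl (fun j _ => h1 j), Finset.prod_mul_distrib, mul_comm] at hc
  have h2 : 0 < ∏ j, Nat.card (P j) := Finset.prod_pos fun j _ => Nat.card_pos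
  have h3 := Nat.eq_of_mul_eq_mul_right h2 hc
  rw [← h3]
  simp

theorem card_omega_diag (C : Coo N T e) {K : Subgroup G} {l : ℕ} (hl : 2 * l ≤ m)
    (h : ∀ i, Nat.card ↥(K ⊓ N) = Nat.card (T i) ^ l)
    (hc : Nat.card N = Nat.card Ω * Nat.card ↥(K ⊓ N)) (i : Fin m) : Nat.card Ω = Nat.card (T i) ^ (m - l) := by
  rw [h i, card_N C i] at hc
  have h1 : m = (m - l) + l := by omega
  conv_lhs at hc => rw [h1, pow_add]
  exact (Nat.eq_of_mul_eq_mul_right (pow_pos Nat.card_pos l) hc).symm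

/-- one factor: `N` is simple -/
theorem simple_of_one (C : Coo N T e) (hm : m = 1) : IsSimpleGroup N ∧ ¬ IsMulCommutative N := by
  subst hm
  have e' : N ≃* T 0 := e.trans (MulEquiv.piUnique (fun i => T i))
  have h1 := C.simple 0
  refine ⟨(MulEquiv.isSimpleGroup_congr e').2 h1, fun hcomm => ?_⟩
  obtain ⟨a, b, hab⟩ := C.na 0
  apply hab
  apply e'.symm.injective
  rw [map_mul, map_mul]
  exact hcomm.is_comm.comm _ _

omit [Finite G] in
/-- two factors: `N ≃ T × T` -/
theorem prod_of_two (C : Coo N T e) (hm : m = 2) (i : Fin m) : Nonempty (N ≃* T i × T i) := by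
  subst hm
  have h1 : ∀ j, Nonempty (T j ≃* T i) := fun j => by
    obtain ⟨g, hg⟩ := C.trans j i
    exact ⟨((T j).equivMapOfInjective _ (MulAut.conj g).injective).trans (MulEquiv.subgroupCongr hg.symm)⟩
  obtain ⟨f0⟩ := h1 0
  obtain ⟨f1⟩ := h1 1
  let P : (∀ i, T i) ≃* T 0 × T 1 :=
    { toFun := fun x => (x 0, x 1)
      invFun := fun p => fun j => match j with
        | 0 => p.1
        | 1 => p.2
      left_inv := fun x => by
        funext j
        match j with
        | 0 => rfl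
        | 1 => rfl
      right_inv := fun p => rfl
      map_mul' := fun x y => rfl }
  exact ⟨(e.trans P).trans (MulEquiv.prodCongr f0 f1)⟩

end Orders

/-! ### two commuting regular normal subgroups -/

section Two

variable {N C : Subgroup G}

/-- the isomorphism of two commuting regular subgroups -/
theorem equiv_of_commute {ω : Ω} (hcomm : ∀ n ∈ N, ∀ c ∈ C, n * c = c * n)
    (hN : ∀ x : Ω, ∃ n ∈ N, n • ω = x) (hN1 : ∀ n ∈ N, n • ω = ω → n = 1) (hC1 : ∀ c ∈ C, c • ω = ω → c = 1)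
    (hcard : Nat.card C = Nat.card N) : Nonempty (C ≃* N) := by
  have h1 : ∀ c : C, ∃ n : N, (n : G) • ω = (c : G) • ω := fun c => by
    obtain ⟨n, hn, h⟩ := hN ((c : G) • ω)
    exact ⟨⟨n, hn⟩, h⟩
  choose ν hν using h1
  have huniq : ∀ a b : N, (a : G) • ω = (b : G) • ω → a = b := by
    intro a b h
    have h2 : ((b : G)⁻¹ * a) • ω = ω := by rw [mul_smul, h, inv_smul_smul]
    have h3 := hN1 _ (N.mul_mem (N.inv_mem b.2) a.2) h2
    rw [inv_mul_eq_one] at h3
    exact Subtype.ext h3.symm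
  have hmul : ∀ c d, ν (c * d) = ν d * ν c := by
    intro c d
    apply huniq
    rw [hν, Subgroup.coe_mul, Subgroup.coe_mul, mul_smul, mul_smul, hν c, ← hν d, smul_smul, smul_smul,
      hcomm _ (ν d).2 _ c.2]
  let f : C →* N :=
    { toFun := fun c => (ν c)⁻¹
      map_one' := by
        have : ν 1 = 1 := huniq _ _ (by rw [hν]; rfl)
        change (ν 1)⁻¹ = 1
        rw [this, inv_one]
      map_mul' := fun c d => by
        change (ν (c * d))⁻¹ = (ν c)⁻¹ * (ν d)⁻¹
        rw [hmul, mul_inv_rev] }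
  have hinj : Function.Injective f := by
    rw [injective_iff_map_eq_one]
    intro c hc
    have h2 : (ν c)⁻¹ = 1 := hc
    have h3 : ν c = 1 := inv_eq_one.1 h2
    have h4 := hν c
    rw [h3] at h4
    have h5 : (c : G) • ω = ω := by rw [← h4]; exact one_smul G ω
    exact Subtype.ext (hC1 c c.2 h5)
  have hbij : Function.Bijective f := by
    rw [Nat.bijective_iff_injective_and_card]
    exact ⟨hinj, hcard⟩
  exact ⟨MulEquiv.ofBijective f hbij⟩

omit [Finite G] in
theorem sup_equiv_prod (hcomm : ∀ n ∈ N, ∀ c ∈ C, n * c = c * n) (hdisj : N ⊓ C = ⊥) :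
    Nonempty (N × C ≃* ↥(N ⊔ C)) := by
  let f : N × C →* G := MonoidHom.noncommCoprod N.subtype C.subtype fun n c => hcomm n n.2 c c.2
  have hf : Function.Injective f := by
    rw [injective_iff_map_eq_one]
    rintro ⟨n, c⟩ h
    have h1 : (n : G) * (c : G) = 1 := h
    have h2 : (n : G) ∈ N ⊓ C := ⟨n.2, by rw [mul_eq_one_iff_eq_inv.1 h1]; exact C.inv_mem c.2⟩
    rw [hdisj, mem_bot] at h2
    rw [h2, one_mul] at h1
    exact Prod.ext (Subtype.ext h2) (Subtype.ext h1)
  have hr : f.range = N ⊔ C := by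
    have h1 := MonoidHom.noncommCoprod_range N.subtype C.subtype fun n c => hcomm n n.2 c c.2
    rw [range_subtype, range_subtype] at h1
    exact h1
  exact ⟨(MonoidHom.ofInjective hf).trans (MulEquiv.subgroupCongr hr)⟩

end Two

namespace Hyp

variable (H : Hyp G Ω B S r a)
include H

/-- the facts about a minimal normal subgroup -/
theorem analyse (N : Subgroup G) [hN' : N.Normal] (hN : N ≠ ⊥)
    (hmin : ∀ M : Subgroup G, M.Normal → M ≤ N → M = ⊥ ∨ M = N) (hS : ¬ S ≤ centralizer (N : Set G)) :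
    (centralizer (N : Set G) = ⊥ → Concl G B S) ∧
    (centralizer (N : Set G) ≠ ⊥ → IsSimpleGroup N ∧ ¬ IsMulCommutative N ∧ ∃ f : S →* N, Function.Injective f) := by
  have := H.prim
  have := H.nontrivial
  have hSs := H.simple
  have hr : Fact r.Prime := ⟨H.hr⟩
  obtain ⟨ω⟩ : Nonempty Ω := inferInstance
  set K := stabilizer G ω with hK
  have hKN : ∀ g : G, ∃ n ∈ N, g * n ∈ K := by
    intro g
    obtain ⟨n, hn, h⟩ := trans_of_normal N hN ω (g⁻¹ • ω)
    refine ⟨n, hn, ?_⟩
    rw [hK, mem_stabilizer_iff, mul_smul, h, smul_inv_smul]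
  have hNK : ¬ N ≤ K := by
    intro h
    obtain ⟨x, hx⟩ := exists_ne ω
    obtain ⟨n, hn, h1⟩ := trans_of_normal N hN ω x
    exact hx (h1.symm.trans (mem_stabilizer_iff.1 (h hn)))
  have hcN : Nat.card N = Nat.card Ω * Nat.card ↥(K ⊓ N) := card_eq N hN ω
  obtain ⟨m, T, e, C⟩ := exists_coo N hmin (H.nonabelian N hN hmin)
  have hm := C.hm
  let i0 : Fin m := ⟨0, hm⟩
  have hsch : ∀ i, Sch (T i) := fun i => H.sch _ (C.simple i) fun hcomm => by
    obtain ⟨a, b, hab⟩ := C.na i
    exact hab (hcomm.is_comm.comm _ _)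
  have hraS : r ^ a ∣ Nat.card S := by
    rw [← H.vS]; exact Nat.ordProj_dvd _ _
  have hvΩ := H.vΩ
  have hΩ0 : Nat.card Ω ≠ 0 := (Nat.zero_lt_one.trans H.one_lt_card).ne'
  have hrΩ : r ∣ Nat.card Ω := by
    have h1 : r ^ 1 ∣ Nat.card Ω := by
      rw [H.hr.pow_dvd_iff_le_factorization hΩ0, hvΩ]
      exact H.ha
    rwa [pow_one] at h1
  have hdich := C.dichotomy K hKN hNK (fun X hX hKX hinv => max_inv N H.nontrivial ω X hX hKX hinv)
  -- Step 1
  have hfix : ∀ s ∈ S, ∀ i, (T i).map (MulAut.conj s).toMonoidHom = T i := by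
    rcases C.fix_or_dvd S with h | h
    · exact h
    · exfalso
      have h1 : 2 * a < m := two_mul_lt H.hr H.hr2 hm (hraS.trans h)
      rcases hdich with ⟨P, -, hidx, hP⟩ | ⟨l, hl, hlc⟩
      · have h2 := card_omega_prod C P hP hidx hcN i0
        have h3 : r ∣ (P i0).index := H.hr.dvd_of_dvd_pow (h2 ▸ hrΩ)
        have h4 : r ^ m ∣ Nat.card Ω := by rw [h2]; exact pow_dvd_pow_of_dvd h3 m
        rw [H.hr.pow_dvd_iff_le_factorization hΩ0, hvΩ] at h4
        omega
      · have h2 := card_omega_diag C hl hlc hcN i0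
        have h3 : r ∣ Nat.card (T i0) := H.hr.dvd_of_dvd_pow (h2 ▸ hrΩ)
        have h4 : r ^ (m - l) ∣ Nat.card Ω := by rw [h2]; exact pow_dvd_pow_of_dvd h3 _
        rw [H.hr.pow_dvd_iff_le_factorization hΩ0, hvΩ] at h4
        omega
  -- Step 2
  obtain ⟨j, f, hf⟩ := C.exists_hom H.na hsch hfix hS
  have hraT : ∀ i, r ^ a ∣ Nat.card (T i) := fun i => by
    rw [card_T_eq C i j]
    exact hraS.trans (Subgroup.card_dvd_of_injective f hf)
  have hfN : ∃ f : S →* N, Function.Injective f :=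
    ⟨(inclusion (C.le j)).comp f, (inclusion_injective (C.le j)).comp hf⟩
  constructor
  · intro hcen
    by_cases hm1 : m = 1
    · left
      obtain ⟨h1, h2⟩ := simple_of_one C hm1
      exact ⟨N, hN', h1, h2, hcen⟩
    rcases hdich with ⟨P, -, hidx, hP⟩ | ⟨l, hl, hlc⟩
    · exfalso
      -- the product case
      have h2 := card_omega_prod C P hP hidx hcN i0
      have hnd : ∀ i, ¬ r ^ a ∣ (P i).index := by
        intro i hdvd
        rw [hidx i i0] at hdvd
        have h3 : (r ^ a) ^ m ∣ Nat.card Ω := by rw [h2]; exact pow_dvd_pow_of_dvd hdvd m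
        rw [← pow_mul, H.hr.pow_dvd_iff_le_factorization hΩ0, hvΩ] at h3
        have h4 : a * 2 ≤ a * m := Nat.mul_le_mul_left a (by omega)
        have := H.ha
        omega
      obtain ⟨y, hyS, hy⟩ := H.cyc
      have hyN : y ∈ N := by
        obtain ⟨n, hn, h3⟩ := C.le_sup H.na hsch hfix hyS
        rw [hcen, mem_bot, inv_mul_eq_one] at h3
        rw [← h3]; exact hn
      have hy1 : y ^ (r ^ a) = 1 := by rw [← hy]; exact pow_orderOf_eq_one y
      have hyc : ∀ i, ∃ t : T i, t⁻¹ * (e ⟨y, hyN⟩ i) ^ (r ^ (a - 1)) * t ∈ P i := by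
        intro i
        refine RegCyc.exists_fixed (P i) H.hr H.ha ?_ (hnd i)
        have h3 : (⟨y, hyN⟩ : N) ^ (r ^ a) = 1 := Subtype.ext hy1
        rw [← Pi.pow_apply, ← map_pow, h3, map_one, Pi.one_apply]
      choose t ht using hyc
      have h5 : (((e.symm t)⁻¹ * (⟨y, hyN⟩ : N) ^ (r ^ (a - 1)) * (e.symm t) : N) : G) ∈ K := by
        rw [hP]
        intro i
        rw [map_mul, map_mul, map_inv, MulEquiv.apply_symm_apply, map_pow, Pi.mul_apply, Pi.mul_apply, Pi.inv_apply,
          Pi.pow_apply]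
        exact ht i
      rw [hK, mem_stabilizer_iff] at h5
      have h6 : (y ^ (r ^ (a - 1))) • (((e.symm t : N) : G) • ω) = ((e.symm t : N) : G) • ω := by
        have h7 : y ^ (r ^ (a - 1)) * ((e.symm t : N) : G) = ((e.symm t : N) : G) *
            (((e.symm t)⁻¹ * (⟨y, hyN⟩ : N) ^ (r ^ (a - 1)) * (e.symm t) : N) : G) := by
          simp only [Subgroup.coe_mul, Subgroup.coe_inv, Subgroup.coe_pow]
          group
        rw [smul_smul, h7, mul_smul, h5]
      have h8 := H.reg _ (B.pow_mem (H.SB hyS) _) _ h6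
      have h9 := orderOf_dvd_of_pow_eq_one h8
      rw [hy, Nat.pow_dvd_pow_iff_le_right H.hr.one_lt] at h9
      have := H.ha
      omega
    · -- the diagonal case
      have h2 := card_omega_diag C hl hlc hcN i0
      have h3 : (r ^ a) ^ (m - l) ∣ Nat.card Ω := by rw [h2]; exact pow_dvd_pow_of_dvd (hraT i0) _
      rw [← pow_mul, H.hr.pow_dvd_iff_le_factorization hΩ0, hvΩ] at h3
      have h4 : m - l ≤ 1 := by
        by_contra hcon
        have h5 : a * 2 ≤ a * (m - l) := Nat.mul_le_mul_left a (by omega)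
        have := H.ha
        omega
      have hm2 : m = 2 := by omega
      have hl1 : m - l = 1 := by omega
      rw [hl1, pow_one] at h2
      right
      refine ⟨N, hN', hcen, T j, C.simple j, fun hcomm => ?_, prod_of_two C hm2 j, ?_, f, hf⟩
      · obtain ⟨a, b, hab⟩ := C.na j
        exact hab (hcomm.is_comm.comm _ _)
      · rw [H.card, h2, card_T_eq C j i0]
  · intro hcen
    have hcn : (centralizer (N : Set G)).Normal := inferInstance
    have h1 : K ⊓ N = ⊥ := stab_inf_centralizer (centralizer (N : Set G)) hcen ω (le_centralizer_iff.1 le_rfl)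
    rw [h1, card_bot, mul_one, card_N C j] at hcN
    have h3 : (r ^ a) ^ m ∣ Nat.card Ω := by rw [← hcN]; exact pow_dvd_pow_of_dvd (hraT j) _
    rw [← pow_mul, H.hr.pow_dvd_iff_le_factorization hΩ0, hvΩ] at h3
    have hm1 : m = 1 := by
      by_contra hcon
      have h5 : a * 2 ≤ a * m := Nat.mul_le_mul_left a (by omega)
      have := H.ha
      omega
    obtain ⟨h1, h2⟩ := simple_of_one C hm1
    exact ⟨h1, h2, hfN⟩

/-- **Primitive groups with a regular subgroup containing `S`.** -/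
theorem main : Concl G B S := by
  have := H.prim
  have := H.nontrivial
  have hSs := H.simple
  obtain ⟨ω⟩ : Nonempty Ω := inferInstance
  have hSbot : S ≠ ⊥ := by
    rintro rfl
    exact (not_subsingleton (⊥ : Subgroup G)) inferInstance
  have hreg : ∀ N : Subgroup G, N.Normal → N ≠ ⊥ → centralizer (N : Set G) ≠ ⊥ → Nat.card N = Nat.card Ω := by
    intro N hN' hN hc
    have h1 : stabilizer G ω ⊓ N = ⊥ :=
      stab_inf_centralizer (centralizer (N : Set G)) hc ω (le_centralizer_iff.1 le_rfl)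
    have h2 := card_eq (Ω := Ω) N hN ω
    rw [h1, card_bot, mul_one] at h2
    exact h2
  have hGtop : (⊤ : Subgroup G) ≠ ⊥ := by
    intro h
    apply hSbot
    rw [eq_bot_iff, ← h]
    exact le_top
  -- a minimal normal subgroup not centralised by `S`
  obtain ⟨N, hN', hN, hmin, hS⟩ : ∃ N : Subgroup G, N.Normal ∧ N ≠ ⊥ ∧
      (∀ M : Subgroup G, M.Normal → M ≤ N → M = ⊥ ∨ M = N) ∧ ¬ S ≤ centralizer (N : Set G) := by
    obtain ⟨N1, hN1', -, hN1, hmin1⟩ := exists_min (⊤ : Subgroup G) hGtop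
    by_cases h1 : S ≤ centralizer (N1 : Set G)
    · have hC1 : centralizer (N1 : Set G) ≠ ⊥ := fun h => hSbot (eq_bot_iff.2 (h ▸ h1))
      obtain ⟨N2, hN2', hN2C, hN2, hmin2⟩ := exists_min (centralizer (N1 : Set G)) hC1
      refine ⟨N2, hN2', hN2, hmin2, fun h2 => ?_⟩
      have hC2 : centralizer (N2 : Set G) ≠ ⊥ := fun h => hSbot (eq_bot_iff.2 (h ▸ h2))
      have hCC : centralizer ((centralizer (N1 : Set G) : Subgroup G) : Set G) ≠ ⊥ := by
        intro h
        apply hN1
        rw [eq_bot_iff, ← h]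
        exact le_centralizer_iff.1 le_rfl
      have h3 := hreg _ hN2' hN2 hC2
      have h4 := hreg _ inferInstance hC1 hCC
      have h5 : N2 = centralizer (N1 : Set G) := Subgroup.eq_of_le_of_card_ge hN2C (by rw [h3, h4])
      apply H.na
      refine ⟨⟨fun x y => ?_⟩⟩
      have hx : (x : G) ∈ N2 := by rw [h5]; exact h1 x.2
      have hy := mem_centralizer_iff.1 (h2 y.2) x hx
      exact Subtype.ext hy
    · exact ⟨N1, hN1', hN1, hmin1, h1⟩
  obtain ⟨hA, hB⟩ := H.analyse N hN hmin hS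
  by_cases hcen : centralizer (N : Set G) = ⊥
  · exact hA hcen
  · obtain ⟨hNs, hNna, f, hf⟩ := hB hcen
    right
    set C := centralizer (N : Set G) with hC
    have hCn : C.Normal := inferInstance
    have hCC : centralizer (C : Set G) ≠ ⊥ := by
      intro h
      apply hN
      rw [eq_bot_iff, ← h]
      exact le_centralizer_iff.1 le_rfl
    have hcN := hreg N hN' hN hcen
    have hcC := hreg C hCn hcen hCC
    have hNC : N ≤ centralizer (C : Set G) := le_centralizer_iff.1 le_rfl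
    have hNbot : centralizer ((centralizer (C : Set G) : Subgroup G) : Set G) ≠ ⊥ := by
      intro h
      apply hcen
      rw [eq_bot_iff, ← h]
      exact le_centralizer_iff.1 le_rfl
    have hcCC := hreg (centralizer (C : Set G)) inferInstance hCC hNbot
    have hCCN : N = centralizer (C : Set G) := Subgroup.eq_of_le_of_card_ge hNC (by rw [hcN, hcCC])
    have hcomm : ∀ n ∈ N, ∀ c ∈ C, n * c = c * n := fun n hn c hc => mem_centralizer_iff.1 hc n hn
    have hdisj : N ⊓ C = ⊥ := by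
      have h1 : (N ⊓ C).subgroupOf N = ⊥ ∨ (N ⊓ C).subgroupOf N = ⊤ := by
        have h2 : ((N ⊓ C).subgroupOf N).Normal := inferInstance
        exact IsSimpleGroup.eq_bot_or_eq_top_of_normal _ h2
      rcases h1 with h | h
      · rw [subgroupOf_eq_bot] at h
        rw [eq_bot_iff]
        intro x hx
        exact h.le_bot ⟨hx, hx.1⟩
      · exfalso
        rw [subgroupOf_eq_top] at h
        apply hNna
        refine ⟨⟨fun x y => ?_⟩⟩
        exact Subtype.ext (hcomm x x.2 y (h y.2).2)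
    have hKN : ∀ n ∈ N, n • ω = ω → n = 1 := by
      intro n hn h
      have h1 : stabilizer G ω ⊓ N = ⊥ :=
        stab_inf_centralizer (centralizer (N : Set G)) hcen ω (le_centralizer_iff.1 le_rfl)
      have h2 : n ∈ stabilizer G ω ⊓ N := ⟨h, hn⟩
      rw [h1] at h2
      exact h2
    have hKC : ∀ n ∈ C, n • ω = ω → n = 1 := by
      intro n hn h
      have h1 : stabilizer G ω ⊓ C = ⊥ := stab_inf_centralizer N hN ω le_rfl
      have h2 : n ∈ stabilizer G ω ⊓ C := ⟨h, hn⟩
      rw [h1] at h2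
      exact h2
    obtain ⟨φ⟩ := equiv_of_commute (N := N) (C := C) (ω := ω) hcomm (fun x => trans_of_normal N hN ω x) hKN hKC
      (by rw [hcN, hcC])
    obtain ⟨ψ⟩ := sup_equiv_prod hcomm hdisj
    refine ⟨N ⊔ C, inferInstance, ?_, N, hNs, hNna, ⟨ψ.symm.trans (MulEquiv.prodCongr (MulEquiv.refl _) φ)⟩, ?_, f, hf⟩
    · rw [eq_bot_iff]
      intro x hx
      have h1 : x ∈ C := centralizer_le (show (N : Set G) ⊆ ((N ⊔ C : Subgroup G) : Set G) from
        SetLike.coe_subset_coe.2 le_sup_left) hx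
      have h2 : x ∈ centralizer (C : Set G) := centralizer_le (show (C : Set G) ⊆ ((N ⊔ C : Subgroup G) : Set G) from
        SetLike.coe_subset_coe.2 le_sup_right) hx
      rw [← hCCN] at h2
      have h3 : x ∈ N ⊓ C := ⟨h2, h1⟩
      rw [hdisj] at h3
      exact h3
    · rw [hcN, H.card]

end Hyp

end Cfsg.Agent.H124.RegMain
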