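import Cfsg.Agent.LieClassical.HermSiegel
import Cfsg.Agent.LieClassical.HermCount
import Cfsg.Agent.LieClassical.GUOrder
import Cfsg.Agent.GH.Cov.LieL4

/-!
# The involutions of `SU_3(q)`, `q` odd

`Ref g v` : `g u = -u + 2 h(u, v) v`. The involutions of `SU_3(q)` are the elements `g` with `Ref g v` for a unit
vector `v`; `v` is unique up to scalars of norm one, so numbers of involutions are numbers of unit vectors over `q + 1`.
-/

set_option autoImplicit false

namespace Cfsg.Agent.H124.SUThree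

open Matrix Cfsg Cfsg.Agent.LieClassical.HermBasic Cfsg.Agent.LieClassical.HermSiegel
  Cfsg.Agent.LieClassical.HermCount

variable {F : Type*} [Field F] {q : ℕ}

/-- `g` is the involution with fixed unit vector `v`. -/
def Ref (g : SU 3 F q) (v : Fin 3 → F) : Prop :=
  ∀ u, act g u = -u + (2 * hermForm 3 F q u v) • v

theorem Ref.eq {g k : SU 3 F q} {v : Fin 3 → F} (h : Ref g v) (h' : Ref k v) : g = k :=
  ext_act fun u => by rw [h u, h' u]

theorem Ref.self {g : SU 3 F q} {v : Fin 3 → F} (h : Ref g v) (hv : hermForm 3 F q v v = 1) : act g v = v := by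
  rw [h v, hv, mul_one, two_smul]; abel

theorem Ref.perp {g : SU 3 F q} {v u : Fin 3 → F} (h : Ref g v) (hu : hermForm 3 F q u v = 0) : act g u = -u := by
  rw [h u, hu, mul_zero, zero_smul, add_zero]

theorem Ref.conj {g x : SU 3 F q} {v : Fin 3 → F} (h : Ref g v) : Ref (x * g * x⁻¹) (act x v) := by
  intro u
  rw [act_mul, act_mul, h, act_add, act_neg, act_smul, act_act_inv]
  congr 3
  rw [← herm_act x (act x⁻¹ u) v, act_act_inv]

theorem Ref.smul {g : SU 3 F q} {v : Fin 3 → F} (h : Ref g v) {c : F} (hc : c * c ^ q = 1) : Ref g (c • v) := by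
  intro u
  rw [h u, herm_smul_right, smul_smul]
  congr 2
  calc 2 * hermForm 3 F q u v = (c * c ^ q) * (2 * hermForm 3 F q u v) := by rw [hc, one_mul]
    _ = _ := by ring

variable [Fintype F]

theorem two_ne_zero (hF : Fintype.card F = q ^ 2) (hq : Odd q) : (2 : F) ≠ 0 := by
  apply Ring.two_ne_zero
  intro h
  have h4 := (FiniteField.even_card_iff_char_two (F := F)).1 h
  rw [hF] at h4
  have h5 : Odd (q ^ 2) := hq.pow
  rw [Nat.odd_iff] at h5
  omega

omit [Fintype F] in
theorem Ref.mul_self {g : SU 3 F q} {v : Fin 3 → F} (h : Ref g v) (hv : hermForm 3 F q v v = 1) : g * g = 1 := by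
  apply ext_act
  intro u
  rw [act_mul, h u, act_add, act_neg, act_smul, h.self hv, h u, act_one]
  abel

omit [Fintype F] in
/-- Three pairwise orthogonal unit vectors form a basis. -/
theorem parseval {b : Fin 3 → Fin 3 → F}
    (hb : ∀ i j, hermForm 3 F q (b i) (b j) = if i = j then 1 else 0) (u : Fin 3 → F) :
    u = ∑ i, hermForm 3 F q u (b i) • b i := by
  set M : Matrix (Fin 3) (Fin 3) F := Matrix.of b with hM
  set N : Matrix (Fin 3) (Fin 3) F := (Matrix.of fun i j => (b i j) ^ q)ᵀ with hN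
  have h1 : M * N = 1 := by
    ext i j
    rw [mul_apply]
    have := hb i j
    rw [herm_def] at this
    rw [one_apply, ← this]
    rfl
  have h2 : N * M = 1 := mul_eq_one_comm.1 h1
  ext k
  have h3 : ∀ j, ∑ i, (b i j) ^ q * b i k = if j = k then 1 else 0 := by
    intro j
    have := congrFun (congrFun h2 j) k
    rw [mul_apply, one_apply] at this
    exact this
  rw [Finset.sum_apply]
  simp only [Pi.smul_apply, smul_eq_mul, herm_def, Finset.sum_mul]
  rw [Finset.sum_comm]
  have h4 : ∀ j, ∑ i, u j * b i j ^ q * b i k = u j * (if j = k then 1 else 0) := by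
    intro j
    rw [← h3 j, Finset.mul_sum]
    exact Finset.sum_congr rfl fun i _ => by ring
  rw [Finset.sum_congr rfl fun j _ => h4 j]
  simp

/-- the conjugate cross product -/
def cr (q : ℕ) (v w : Fin 3 → F) : Fin 3 → F := fun i => (crossProduct v w i) ^ q

theorem cr_left (hF : Fintype.card F = q ^ 2) (v w : Fin 3 → F) : hermForm 3 F q v (cr q v w) = 0 := by
  rw [herm_def, Fin.sum_univ_three]
  simp only [cr, pow_q_pow_q hF, cross_apply, cons_val_zero, cons_val_one, cons_val]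
  ring

theorem cr_right (hF : Fintype.card F = q ^ 2) (v w : Fin 3 → F) : hermForm 3 F q w (cr q v w) = 0 := by
  rw [herm_def, Fin.sum_univ_three]
  simp only [cr, pow_q_pow_q hF, cross_apply, cons_val_zero, cons_val_one, cons_val]
  ring

theorem cr_self (hF : Fintype.card F = q ^ 2) (v w : Fin 3 → F) :
    hermForm 3 F q (cr q v w) (cr q v w) =
      hermForm 3 F q v v * hermForm 3 F q w w - hermForm 3 F q v w * hermForm 3 F q w v := by
  simp only [herm_def, Fin.sum_univ_three, cr, pow_q_pow_q hF, cross_apply, cons_val_zero, cons_val_one, cons_val,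
    sub_pow_q hF, mul_pow]
  ring

/-- norm one scaling of an anisotropic vector -/
theorem exists_unit_smul (hF : Fintype.card F = q ^ 2) {n : ℕ} {v : Fin n → F} (hv : hermForm n F q v v ≠ 0) :
    ∃ c : F, c ≠ 0 ∧ hermForm n F q (c • v) (c • v) = 1 := by
  have hkq : ((hermForm n F q v v)⁻¹) ^ q = (hermForm n F q v v)⁻¹ := by rw [inv_pow, herm_self_pow hF]
  obtain ⟨c, hc0, hc⟩ := exists_norm_eq_ne hF hkq (inv_ne_zero hv)
  exact ⟨c, hc0, by rw [herm_smul_left, herm_smul_right, ← mul_assoc, hc, inv_mul_cancel₀ hv]⟩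

/-- Two unit vectors spanning a non-degenerate line have a common orthogonal unit vector. -/
theorem exists_perp (hF : Fintype.card F = q ^ 2) {v w : Fin 3 → F} (hv : hermForm 3 F q v v = 1)
    (hw : hermForm 3 F q w w = 1) (h : hermForm 3 F q v w * hermForm 3 F q w v ≠ 1) :
    ∃ z, hermForm 3 F q z z = 1 ∧ hermForm 3 F q v z = 0 ∧ hermForm 3 F q w z = 0 := by
  have h1 : hermForm 3 F q (cr q v w) (cr q v w) ≠ 0 := by
    rw [cr_self hF, hv, hw, one_mul]
    exact sub_ne_zero.2 (Ne.symm h)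
  obtain ⟨c, hc0, hc⟩ := exists_unit_smul hF h1
  exact ⟨_, hc, by rw [herm_smul_right, cr_left hF, mul_zero], by rw [herm_smul_right, cr_right hF, mul_zero]⟩

/-- If a unit vector `z` is orthogonal to the unit vectors `v`, `w` and `|h(w, v)| = 1` then `w` is proportional
to `v`. -/
theorem eq_of_perp (hF : Fintype.card F = q ^ 2) {v w z : Fin 3 → F} (hv : hermForm 3 F q v v = 1)
    (hw : hermForm 3 F q w w = 1) (hz : hermForm 3 F q z z = 1) (hvz : hermForm 3 F q v z = 0)
    (hwz : hermForm 3 F q w z = 0) (h : hermForm 3 F q w v * (hermForm 3 F q w v) ^ q = 1) :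
    w = hermForm 3 F q w v • v := by
  have hzv := herm_eq_zero_swap hF hvz
  have hc : hermForm 3 F q (cr q v z) (cr q v z) = 1 := by
    rw [cr_self hF, hv, hz, hvz, zero_mul, sub_zero, one_mul]
  have h1 := cr_left hF v z
  have h2 := cr_right hF v z
  have h1' := herm_eq_zero_swap hF h1
  have h2' := herm_eq_zero_swap hF h2
  have hb : ∀ i j, hermForm 3 F q ((![v, z, cr q v z] : Fin 3 → Fin 3 → F) i)
      ((![v, z, cr q v z] : Fin 3 → Fin 3 → F) j) = if i = j then 1 else 0 := by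
    intro i j
    fin_cases i <;> fin_cases j <;> simp [hv, hz, hvz, hzv, hc, h1, h2, h1', h2']
  have h3 := parseval hb w
  rw [Fin.sum_univ_three] at h3
  simp only [cons_val_zero, cons_val_one, cons_val] at h3
  rw [hwz, zero_smul, add_zero] at h3
  have h4 : hermForm 3 F q w w = 1 := hw
  have hkey : hermForm 3 F q w (cr q v z) = 0 := by
    have h5 : hermForm 3 F q w w = hermForm 3 F q w v * (hermForm 3 F q w v) ^ q +
        hermForm 3 F q w (cr q v z) * (hermForm 3 F q w (cr q v z)) ^ q := by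
      conv_lhs => rw [h3]
      simp only [herm_add_left, herm_add_right hF, herm_smul_left, herm_smul_right, hv, hc, h1, h1']
      ring
    rw [hw, h] at h5
    have h6 : hermForm 3 F q w (cr q v z) * (hermForm 3 F q w (cr q v z)) ^ q = 0 := by
      linear_combination -h5
    exact (norm_eq_zero hF).1 h6
  rw [hkey, zero_smul, add_zero] at h3
  exact h3

/-! ### Existence -/

/-- Every involution has a fixed unit vector. -/
theorem exists_ref (hF : Fintype.card F = q ^ 2) (h2 : (2 : F) ≠ 0) {g : SU 3 F q} (hg : g * g = 1) (h1 : g ≠ 1) :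
    ∃ v : Fin 3 → F, hermForm 3 F q v v = 1 ∧ Ref g v := by
  have hM : mat g * mat g = 1 := by rw [← mat_mul, hg, mat_one]
  obtain ⟨k, l, b, hb1, hb2⟩ := Cfsg.Agent.GH.Cov.LieL4.exists_basis h2 (mat g) hM
  have hdet := Cfsg.Agent.GH.Cov.LieL4.det_of_basis (mat g) b hb1 hb2
  rw [det_mat] at hdet
  have hcard : k + l = 3 := by
    have h3 := Module.finrank_eq_card_basis b
    rw [Module.finrank_fintype_fun_eq_card] at h3
    simp only [Fintype.card_sum, Fintype.card_fin] at h3
    omega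
  have hne : (-1 : F) ≠ 1 := by
    intro h
    apply h2
    linear_combination -h
  have hk : k = 0 ∨ k = 1 ∨ k = 2 ∨ k = 3 := by omega
  rcases hk with rfl | rfl | rfl | rfl
  · exfalso
    apply h1
    apply mat_injective
    rw [mat_one]
    refine Matrix.toLin'.injective (b.ext fun i => ?_)
    rcases i with i | i
    · exact i.elim0
    · rw [toLin'_apply, hb2]
      simp
  · exact absurd (by rw [pow_one] at hdet; exact hdet.symm) hne
  · obtain rfl : l = 1 := by omega
    set v := b (Sum.inr 0) with hv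
    have hgv : act g v = v := hb2 0
    have hv0 : v ≠ 0 := b.ne_zero _
    -- the `-1` vectors are orthogonal to `v`
    have hperp : ∀ i, hermForm 3 F q (b (Sum.inl i)) v = 0 := by
      intro i
      have h3 := herm_act g (b (Sum.inl i)) v
      rw [hgv, show act g (b (Sum.inl i)) = -b (Sum.inl i) from hb1 i, herm_neg_left] at h3
      have h4 : (2 : F) * hermForm 3 F q (b (Sum.inl i)) v = 0 := by linear_combination -h3
      exact (mul_eq_zero.1 h4).resolve_left h2
    have hdec : ∀ u, ∃ a c d : F, u = a • b (Sum.inl 0) + c • b (Sum.inl 1) + d • v := by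
      intro u
      refine ⟨b.repr u (Sum.inl 0), b.repr u (Sum.inl 1), b.repr u (Sum.inr 0), ?_⟩
      have h3 := b.sum_repr u
      rw [Fintype.sum_sum_type, Fin.sum_univ_two, Fin.sum_univ_one] at h3
      exact h3.symm
    have hne0 : hermForm 3 F q v v ≠ 0 := by
      intro h3
      apply hv0
      apply herm_nondeg hF
      intro u
      apply herm_eq_zero_swap hF
      obtain ⟨a, c, d, rfl⟩ := hdec u
      rw [herm_add_left, herm_add_left, herm_smul_left, herm_smul_left, herm_smul_left, hperp, hperp, h3]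
      ring
    obtain ⟨c, hc0, hc⟩ := exists_unit_smul hF hne0
    refine ⟨c • v, hc, ?_⟩
    intro u
    have hs : (2 * hermForm 3 F q u (c • v)) • c • v = (2 * hermForm 3 F q u v * (hermForm 3 F q v v)⁻¹) • v := by
      rw [smul_smul]
      congr 1
      rw [herm_smul_left, herm_smul_right] at hc
      rw [herm_smul_right]
      field_simp
      linear_combination (hermForm 3 F q u v) * hc
    rw [hs]
    obtain ⟨a, c, d, rfl⟩ := hdec u
    rw [herm_add_left, herm_add_left, herm_smul_left, herm_smul_left, herm_smul_left, hperp, hperp, act_add, act_add,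
      act_smul, act_smul, act_smul, hgv, show act g (b (Sum.inl 0)) = -b (Sum.inl 0) from hb1 0,
      show act g (b (Sum.inl 1)) = -b (Sum.inl 1) from hb1 1]
    have h5 : (2 * (a * 0 + c * 0 + d * hermForm 3 F q v v) * (hermForm 3 F q v v)⁻¹) = 2 * d := by
      field_simp
      ring
    rw [h5, two_mul, add_smul]
    simp only [smul_neg]
    abel
  · exact absurd (by rw [show (-1 : F) ^ 3 = -1 by norm_num] at hdet; exact hdet.symm) hne


omit [Fintype F] in
/-- isometries from diagonal matrices -/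
theorem diag_isom {a : Fin 3 → F} (ha : ∀ i, a i * a i ^ q = 1) (u v : Fin 3 → F) :
    hermForm 3 F q (diagonal a *ᵥ u) (diagonal a *ᵥ v) = hermForm 3 F q u v := by
  rw [herm_def, herm_def]
  refine Finset.sum_congr rfl fun i _ => ?_
  rw [mulVec_diagonal, mulVec_diagonal, mul_pow]
  calc a i * u i * (a i ^ q * v i ^ q) = (a i * a i ^ q) * (u i * v i ^ q) := by ring
    _ = _ := by rw [ha, one_mul]

/-- The element `diag(1, -1, -1)`. -/
theorem exists_ref_e0 (hF : Fintype.card F = q ^ 2) : ∃ g : SU 3 F q, Ref g (Pi.single 0 1) := by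
  have hn : (-1 : F) * (-1) ^ q = 1 := by rw [neg_pow_q hF, one_pow, neg_mul_neg, one_mul]
  refine ⟨mkSU (diagonal ![1, -1, -1]) (by rw [det_diagonal, Fin.prod_univ_three]; simp)
    (diag_isom fun i => by fin_cases i <;> simp [hn]), ?_⟩
  intro u
  show diagonal ![1, -1, -1] *ᵥ u = _
  rw [herm_single_right hF]
  ext i
  rw [mulVec_diagonal]
  fin_cases i
  · simp
    ring
  · simp
  · simp

/-- `SU_3` is transitive on unit vectors. -/
theorem exists_map (hF : Fintype.card F = q ^ 2) {v : Fin 3 → F} (hv : hermForm 3 F q v v = 1) :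
    ∃ x : SU 3 F q, act x (Pi.single 0 1) = v := by
  have he : hermForm 3 F q (Pi.single 0 1) (Pi.single 0 1) = 1 := by
    rw [herm_single_right hF]; simp
  obtain ⟨A, hA⟩ := Cfsg.Agent.LieClassical.GUOrder.exists_gu_map hF he hv
  set M : Matrix (Fin 3) (Fin 3) F := ((A : GL (Fin 3) F) : Matrix (Fin 3) (Fin 3) F) with hM
  have hAM : ∀ u w, hermForm 3 F q (M *ᵥ u) (M *ᵥ w) = hermForm 3 F q u w := A.2
  set d := M.det with hd
  have hdn : d * d ^ q = 1 := by
    rw [← pow_succ']
    exact Cfsg.Agent.LieClassical.GUOrder.det_mul_frob_det hF M hAM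
  have hd0 : d ≠ 0 := left_ne_zero_of_mul_eq_one hdn
  have hin : d⁻¹ * d⁻¹ ^ q = 1 := by rw [inv_pow, ← mul_inv, hdn, inv_one]
  have hdiag : ∀ i, (![1, 1, d⁻¹] : Fin 3 → F) i * (![1, 1, d⁻¹] : Fin 3 → F) i ^ q = 1 := by
    intro i
    fin_cases i
    · simp
    · simp
    · exact hin
  refine ⟨mkSU (M * diagonal ![1, 1, d⁻¹]) ?_ ?_, ?_⟩
  · rw [det_mul, det_diagonal, Fin.prod_univ_three, ← hd]
    simp [mul_inv_cancel₀ hd0]
  · intro u w
    rw [← mulVec_mulVec, ← mulVec_mulVec, hAM, diag_isom hdiag]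
  · show (M * diagonal ![1, 1, d⁻¹]) *ᵥ Pi.single 0 1 = v
    rw [← mulVec_mulVec, ← hA]
    congr 1
    ext i
    rw [mulVec_diagonal]
    fin_cases i <;> simp

/-- Every unit vector is fixed by an involution. -/
theorem exists_of_unit (hF : Fintype.card F = q ^ 2) {v : Fin 3 → F} (hv : hermForm 3 F q v v = 1) :
    ∃ g : SU 3 F q, Ref g v := by
  obtain ⟨g, hg⟩ := exists_ref_e0 (F := F) hF
  obtain ⟨x, rfl⟩ := exists_map hF hv
  exact ⟨_, hg.conj⟩

omit [Fintype F] in
theorem Ref.ne_one (h2 : (2 : F) ≠ 0) {g : SU 3 F q} {v : Fin 3 → F} (h : Ref g v) :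
    g ≠ 1 := by
  rintro rfl
  have h3 : ∀ u : Fin 3 → F, u = hermForm 3 F q u v • v := by
    intro u
    have h4 := h u
    rw [act_one] at h4
    have h5 : (2 : F) • (u - hermForm 3 F q u v • v) = 0 := by
      rw [smul_sub, two_smul, smul_smul]
      nth_rw 1 [h4]
      abel
    exact sub_eq_zero.1 ((smul_eq_zero.1 h5).resolve_left h2)
  have h0 := h3 (Pi.single 0 1)
  have h1 := h3 (Pi.single 1 1)
  rw [herm_single_left] at h0 h1
  have e00 := congrFun h0 0
  have e10 := congrFun h1 0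
  have e11 := congrFun h1 1
  simp only [Pi.single_eq_same, Pi.smul_apply, smul_eq_mul, one_mul] at e00 e10 e11
  rw [Pi.single_eq_of_ne (by decide : (0 : Fin 3) ≠ 1)] at e10
  rcases mul_eq_zero.1 e10.symm with h4 | h4
  · rw [h4, zero_mul] at e11
    exact one_ne_zero e11
  · rw [h4, mul_zero] at e00
    exact one_ne_zero e00

omit [Fintype F] in
/-- The unit vector is unique up to a scalar of norm one. -/
theorem Ref.unique (h2 : (2 : F) ≠ 0) {g : SU 3 F q} {v w : Fin 3 → F} (h : Ref g v)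
    (h' : Ref g w) (hv : hermForm 3 F q v v = 1) (hw : hermForm 3 F q w w = 1) :
    w = hermForm 3 F q w v • v ∧ hermForm 3 F q w v * hermForm 3 F q w v ^ q = 1 := by
  have h3 : w = hermForm 3 F q w v • v := by
    have h4 := h w
    rw [h'.self hw] at h4
    have h5 : (2 : F) • (w - hermForm 3 F q w v • v) = 0 := by
      rw [smul_sub, two_smul, smul_smul]
      nth_rw 1 [h4]
      abel
    exact sub_eq_zero.1 ((smul_eq_zero.1 h5).resolve_left h2)
  refine ⟨h3, ?_⟩
  have h4 : hermForm 3 F q (hermForm 3 F q w v • v) (hermForm 3 F q w v • v) = 1 := by rw [← h3]; exact hw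
  rw [herm_smul_left, herm_smul_right, hv, mul_one] at h4
  exact h4

/-- Two involutions commute iff they are equal or their vectors are orthogonal. -/
theorem commute_iff (hF : Fintype.card F = q ^ 2) (h2 : (2 : F) ≠ 0) {g k : SU 3 F q} {v w : Fin 3 → F} (hg : Ref g v)
    (hk : Ref k w) (hv : hermForm 3 F q v v = 1) (hw : hermForm 3 F q w w = 1) :
    Commute g k ↔ g = k ∨ hermForm 3 F q w v = 0 := by
  constructor
  · intro hc
    have h3 : Ref k (act g w) := by
      have h4 := hk.conj (x := g)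
      rwa [hc.eq, mul_inv_cancel_right] at h4
    have hgw : hermForm 3 F q (act g w) (act g w) = 1 := by rw [herm_act, hw]
    obtain ⟨h4, h5⟩ := Ref.unique h2 hk h3 hw hgw
    set c := hermForm 3 F q (act g w) w with hcd
    rw [hg w] at h4
    by_cases h0 : hermForm 3 F q w v = 0
    · exact Or.inr h0
    · left
      have h6 : (2 * hermForm 3 F q w v) • v = (c + 1) • w := by
        rw [add_smul, one_smul, ← h4]; abel
      have h7 : v = ((2 * hermForm 3 F q w v)⁻¹ * (c + 1)) • w := by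
        rw [mul_smul, ← h6, smul_smul, inv_mul_cancel₀ (mul_ne_zero h2 h0), one_smul]
      set d := (2 * hermForm 3 F q w v)⁻¹ * (c + 1)
      have h8 : d * d ^ q = 1 := by
        have h9 := hv
        rw [h7, herm_smul_left, herm_smul_right, hw, mul_one] at h9
        exact h9
      have h10 := hk.smul h8
      rw [← h7] at h10
      exact hg.eq h10
  · rintro (rfl | h)
    · exact Commute.refl _
    · have h' := herm_eq_zero_swap hF h
      have h3 : act g w = -w := hg.perp h
      have h4 := hk.conj (x := g)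
      rw [h3] at h4
      have h5 : Ref k (-w) := by
        have hn : (-1 : F) * (-1) ^ q = 1 := by rw [neg_pow_q hF, one_pow, neg_mul_neg, one_mul]
        have := hk.smul hn
        rwa [neg_smul, one_smul] at this
      have h6 := h4.eq h5
      exact mul_inv_eq_iff_eq_mul.1 h6

/-! ### Counting -/

/-- The number of involutions with a property is the number of unit vectors with it over `q + 1`. -/
theorem count (hF : Fintype.card F = q ^ 2) (h2 : (2 : F) ≠ 0) (Q : SU 3 F q → Prop) (P : (Fin 3 → F) → Prop)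
    (h : ∀ x v, hermForm 3 F q v v = 1 → Ref x v → (Q x ↔ P v)) :
    Nat.card {v : Fin 3 → F // hermForm 3 F q v v = 1 ∧ P v} =
      (q + 1) * Nat.card {x : SU 3 F q // x ≠ 1 ∧ x * x = 1 ∧ Q x} := by
  classical
  have hex : ∀ v : {v : Fin 3 → F // hermForm 3 F q v v = 1 ∧ P v},
      ∃ x : {x : SU 3 F q // x ≠ 1 ∧ x * x = 1 ∧ Q x}, Ref x.1 v.1 := by
    rintro ⟨v, hv, hP⟩
    obtain ⟨g, hg⟩ := exists_of_unit hF hv
    exact ⟨⟨g, hg.ne_one h2, hg.mul_self hv, (h g v hv hg).2 hP⟩, hg⟩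
  choose f hf using hex
  have hfin : Finite {x : SU 3 F q // x ≠ 1 ∧ x * x = 1 ∧ Q x} := inferInstance
  have := Fintype.ofFinite {x : SU 3 F q // x ≠ 1 ∧ x * x = 1 ∧ Q x}
  rw [Nat.card_congr (Equiv.sigmaFiberEquiv f).symm, Nat.card_sigma]
  have hfib : ∀ x : {x : SU 3 F q // x ≠ 1 ∧ x * x = 1 ∧ Q x}, Nat.card {v // f v = x} = q + 1 := by
    rintro ⟨x, hx1, hx2, hQ⟩
    obtain ⟨v, hv, hxv⟩ := exists_ref hF h2 hx2 hx1
    have hPv : P v := (h x v hv hxv).1 hQ
    rw [← card_norm_eq_one hF]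
    have hv0 : v ≠ 0 := by
      rintro rfl
      rw [herm_zero_left] at hv
      exact zero_ne_one hv
    refine Nat.card_congr
      { toFun := fun w => ⟨hermForm 3 F q w.1.1 v, ?_⟩
        invFun := fun c => ⟨⟨c.1 • v, ?_, ?_⟩, ?_⟩
        left_inv := fun w => ?_
        right_inv := fun c => ?_ }
    · have h3 := hf w.1
      rw [w.2] at h3
      exact (Ref.unique h2 hxv h3 hv w.1.2.1).2
    · rw [herm_smul_left, herm_smul_right, hv, mul_one, c.2]
    · have hunit : hermForm 3 F q (c.1 • v) (c.1 • v) = 1 := by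
        rw [herm_smul_left, herm_smul_right, hv, mul_one, c.2]
      exact (h x _ hunit (hxv.smul c.2)).1 hQ
    · apply Subtype.ext
      exact (hf _).eq (hxv.smul c.2)
    · apply Subtype.ext
      apply Subtype.ext
      have h3 := hf w.1
      rw [w.2] at h3
      exact (Ref.unique h2 hxv h3 hv w.1.2.1).1.symm
    · apply Subtype.ext
      show hermForm 3 F q (c.1 • v) v = c.1
      rw [herm_smul_left, hv, mul_one]
  rw [Finset.sum_congr rfl fun x _ => hfib x, Finset.sum_const, Finset.card_univ, Nat.card_eq_fintype_card,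
    smul_eq_mul, mul_comm]


theorem card_split {α : Type*} [Finite α] (P Q : α → Prop) :
    Nat.card {x // P x} = Nat.card {x // P x ∧ Q x} + Nat.card {x // P x ∧ ¬ Q x} := by
  classical
  have := Fintype.ofFinite α
  simp only [Nat.card_eq_fintype_card, Fintype.card_subtype]
  rw [← Finset.card_filter_add_card_filter_not (s := Finset.univ.filter fun x => P x) (fun x => Q x),
    Finset.filter_filter, Finset.filter_filter]

/-- Number of unit vectors orthogonal to `e₀`. -/
theorem card_perp (hF : Fintype.card F = q ^ 2) :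
    Nat.card {w : Fin 3 → F // hermForm 3 F q w w = 1 ∧ w 0 = 0} = q * (q ^ 2 - 1) := by
  have h3 := card_norm_one hF 2
  rw [if_pos (by decide), show 2 - 1 = 1 from rfl, pow_one] at h3
  rw [← h3]
  refine Nat.card_congr
    { toFun := fun w => ⟨Fin.tail w.1, ?_⟩
      invFun := fun u => ⟨Fin.cons 0 u.1, ?_, ?_⟩
      left_inv := fun w => ?_
      right_inv := fun u => ?_ }
  · have h4 := w.2.1
    rw [← Fin.cons_self_tail w.1, herm_cons, w.2.2, zero_mul, zero_add] at h4
    exact h4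
  · rw [herm_cons, zero_mul, zero_add, u.2]
  · rfl
  · apply Subtype.ext
    show (Fin.cons 0 (Fin.tail w.1) : Fin 3 → F) = w.1
    conv_rhs => rw [← Fin.cons_self_tail w.1, w.2.2]
  · rfl

/-- Number of nonzero isotropic vectors in dimension two. -/
theorem card_iso (hF : Fintype.card F = q ^ 2) :
    Nat.card {u : Fin 2 → F // hermForm 2 F q u u = 0 ∧ u ≠ 0} = (q ^ 2 - 1) * (q + 1) := by
  have h3 := card_isotropic hF 2
  rw [if_pos (by decide), show 2 - 1 = 1 from rfl, pow_one,
    card_split (fun u : Fin 2 → F => hermForm 2 F q u u = 0) (fun u => u = 0)] at h3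
  have h4 : Nat.card {u : Fin 2 → F // hermForm 2 F q u u = 0 ∧ u = 0} = 1 := by
    rw [Nat.card_eq_one_iff_unique]
    exact ⟨⟨fun a b => Subtype.ext (a.2.2.trans b.2.2.symm)⟩, ⟨⟨0, herm_zero_left _, rfl⟩⟩⟩
  rw [h4] at h3
  have h5 : Nat.card {u : Fin 2 → F // hermForm 2 F q u u = 0 ∧ ¬ u = 0} = (q ^ 2 - 1) * (q + 1) := by omega
  exact h5

omit [Fintype F] in
theorem smul_single (c : F) : c • (Pi.single 0 1 : Fin 3 → F) = Fin.cons c (0 : Fin 2 → F) := by
  ext i
  refine Fin.cases ?_ (fun j => ?_) i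
  · simp
  · simp

/-- Number of unit vectors whose span with `e₀` is a degenerate line. -/
theorem card_degen (hF : Fintype.card F = q ^ 2) :
    Nat.card {w : Fin 3 → F // hermForm 3 F q w w = 1 ∧ w 0 * w 0 ^ q = 1 ∧ w ≠ w 0 • Pi.single 0 1} =
      (q + 1) * ((q ^ 2 - 1) * (q + 1)) := by
  rw [← card_iso hF, ← card_norm_eq_one hF, ← Nat.card_prod]
  refine Nat.card_congr
    { toFun := fun w => (⟨w.1 0, w.2.2.1⟩, ⟨Fin.tail w.1, ?_, ?_⟩)
      invFun := fun p => ⟨Fin.cons p.1.1 p.2.1, ?_, ?_, ?_⟩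
      left_inv := fun w => ?_
      right_inv := fun u => ?_ }
  · have h4 := w.2.1
    rw [← Fin.cons_self_tail w.1, herm_cons, w.2.2.1] at h4
    linear_combination h4
  · intro h4
    apply w.2.2.2
    rw [smul_single, ← h4, Fin.cons_self_tail]
  · rw [herm_cons, p.1.2, p.2.2.1, add_zero]
  · exact p.1.2
  · intro h4
    apply p.2.2.2
    rw [smul_single] at h4
    exact (Fin.cons_injective2 h4).2
  · apply Subtype.ext
    exact Fin.cons_self_tail w.1
  · rfl


/-! ### The conditions in terms of vectors -/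

section Cond

variable {t x : SU 3 F q} {v w : Fin 3 → F}

omit [Fintype F] in
theorem eq_iff (h2 : (2 : F) ≠ 0) (ht : Ref t v) (hx : Ref x w) (hv : hermForm 3 F q v v = 1)
    (hw : hermForm 3 F q w w = 1) : x = t ↔ w = hermForm 3 F q w v • v := by
  constructor
  · rintro rfl
    exact (Ref.unique h2 ht hx hv hw).1
  · intro h
    have h3 : hermForm 3 F q w v * hermForm 3 F q w v ^ q = 1 := by
      have h4 : hermForm 3 F q (hermForm 3 F q w v • v) (hermForm 3 F q w v • v) = 1 := by rw [← h]; exact hw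
      rw [herm_smul_left, herm_smul_right, hv, mul_one] at h4
      exact h4
    have h4 := ht.smul h3
    rw [← h] at h4
    exact hx.eq h4

omit [Fintype F] in
theorem norm_of_eq (h : w = hermForm 3 F q w v • v) (hv : hermForm 3 F q v v = 1)
    (hw : hermForm 3 F q w w = 1) : hermForm 3 F q w v * hermForm 3 F q w v ^ q = 1 := by
  have h4 : hermForm 3 F q (hermForm 3 F q w v • v) (hermForm 3 F q w v • v) = 1 := by rw [← h]; exact hw
  rw [herm_smul_left, herm_smul_right, hv, mul_one] at h4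
  exact h4

/-- distance one -/
theorem cond_one (hF : Fintype.card F = q ^ 2) (h2 : (2 : F) ≠ 0) (ht : Ref t v) (hx : Ref x w)
    (hv : hermForm 3 F q v v = 1) (hw : hermForm 3 F q w w = 1) :
    (x ≠ t ∧ Commute t x) ↔ hermForm 3 F q w v = 0 := by
  rw [commute_iff hF h2 ht hx hv hw]
  constructor
  · rintro ⟨h, h' | h'⟩
    · exact absurd h'.symm h
    · exact h'
  · intro h
    refine ⟨?_, Or.inr h⟩
    intro h3
    rw [eq_iff h2 ht hx hv hw, h, zero_smul] at h3
    rw [h3, herm_zero_left] at hw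
    exact zero_ne_one hw

/-- common neighbours -/
theorem exists_common (hF : Fintype.card F = q ^ 2) (h2 : (2 : F) ≠ 0) (ht : Ref t v) (hx : Ref x w)
    (hv : hermForm 3 F q v v = 1) (hw : hermForm 3 F q w w = 1)
    (h : hermForm 3 F q w v * hermForm 3 F q w v ^ q ≠ 1) :
    ∃ y : SU 3 F q, y ≠ 1 ∧ y * y = 1 ∧ Commute t y ∧ Commute y x := by
  obtain ⟨z, hz, h3, h4⟩ := exists_perp hF hv hw (by rwa [herm_swap hF w v, mul_comm])
  obtain ⟨y, hy⟩ := exists_of_unit hF hz
  refine ⟨y, hy.ne_one h2, hy.mul_self hz, ?_, ?_⟩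
  · rw [commute_iff hF h2 ht hy hv hz]
    exact Or.inr (herm_eq_zero_swap hF h3)
  · rw [commute_iff hF h2 hy hx hz hw]
    exact Or.inr h4

theorem not_common (hF : Fintype.card F = q ^ 2) (h2 : (2 : F) ≠ 0) (ht : Ref t v) (hx : Ref x w)
    (hv : hermForm 3 F q v v = 1) (hw : hermForm 3 F q w w = 1) (hc : ¬ Commute t x)
    (h : hermForm 3 F q w v * hermForm 3 F q w v ^ q = 1) {y : SU 3 F q} (hy1 : y ≠ 1) (hy2 : y * y = 1)
    (hty : Commute t y) (hyx : Commute y x) : False := by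
  obtain ⟨z, hz, hyz⟩ := exists_ref hF h2 hy2 hy1
  rw [commute_iff hF h2 ht hyz hv hz] at hty
  rw [commute_iff hF h2 hyz hx hz hw] at hyx
  rcases hty with rfl | h3
  · apply hc
    rcases hyx with rfl | h4
    · exact Commute.refl _
    · obtain ⟨h5, h6⟩ := Ref.unique h2 ht hyz hv hz
      rw [commute_iff hF h2 ht hx hv hw]
      right
      rw [h5, herm_smul_right] at h4
      refine (mul_eq_zero.1 h4).resolve_left fun h7 => ?_
      rw [h7, mul_zero] at h6
      exact zero_ne_one h6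
  · rcases hyx with rfl | h4
    · apply hc
      rw [commute_iff hF h2 ht hx hv hw]
      right
      obtain ⟨h5, h6⟩ := Ref.unique h2 hyz hx hz hw
      rw [h5, herm_smul_left, h3, mul_zero]
    · apply hc
      have h5 := eq_of_perp hF hv hw hz (herm_eq_zero_swap hF h3) h4 h
      rw [← eq_iff h2 ht hx hv hw] at h5
      rw [h5]

/-- distance two -/
theorem cond_two (hF : Fintype.card F = q ^ 2) (h2 : (2 : F) ≠ 0) (ht : Ref t v) (hx : Ref x w)
    (hv : hermForm 3 F q v v = 1) (hw : hermForm 3 F q w w = 1) (hc : ¬ Commute t x) :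
    (∃ y : SU 3 F q, y ≠ 1 ∧ y * y = 1 ∧ Commute t y ∧ Commute y x) ↔
      hermForm 3 F q w v * hermForm 3 F q w v ^ q ≠ 1 := by
  constructor
  · rintro ⟨y, hy1, hy2, h3, h4⟩ h5
    exact not_common hF h2 ht hx hv hw hc h5 hy1 hy2 h3 h4
  · exact exists_common hF h2 ht hx hv hw

/-- distance three -/
theorem cond_three (hF : Fintype.card F = q ^ 2) (h2 : (2 : F) ≠ 0) (ht : Ref t v) (hx : Ref x w)
    (hv : hermForm 3 F q v v = 1) (hw : hermForm 3 F q w w = 1) :
    (¬ Commute t x ∧ ∀ y : SU 3 F q, y ≠ 1 → y * y = 1 → ¬ (Commute t y ∧ Commute y x)) ↔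
      (hermForm 3 F q w v * hermForm 3 F q w v ^ q = 1 ∧ w ≠ hermForm 3 F q w v • v) := by
  constructor
  · rintro ⟨hc, h⟩
    constructor
    · by_contra h3
      obtain ⟨y, hy1, hy2, h4, h5⟩ := exists_common hF h2 ht hx hv hw h3
      exact h y hy1 hy2 ⟨h4, h5⟩
    · intro h3
      rw [← eq_iff h2 ht hx hv hw] at h3
      exact hc (by rw [h3])
  · rintro ⟨h, h'⟩
    have hc : ¬ Commute t x := by
      rw [commute_iff hF h2 ht hx hv hw]
      rintro (h3 | h3)
      · exact h' ((eq_iff h2 ht hx hv hw).1 h3.symm)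
      · rw [h3, zero_mul] at h
        exact zero_ne_one h
    exact ⟨hc, fun y hy1 hy2 h3 => not_common hF h2 ht hx hv hw hc h hy1 hy2 h3.1 h3.2⟩

end Cond

/-! ### The numbers -/

section Numbers

variable {t : SU 3 F q} {v : Fin 3 → F}

/-- transport of unit vectors to the base vector `e₀` -/
theorem card_transport (s : SU 3 F q) (hs : act s (Pi.single 0 1) = v) (hF : Fintype.card F = q ^ 2)
    (P : F → Prop) (R : Prop → Prop) :
    Nat.card {w : Fin 3 → F // hermForm 3 F q w w = 1 ∧ P (hermForm 3 F q w v) ∧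
        R (w = hermForm 3 F q w v • v)} =
      Nat.card {w : Fin 3 → F // hermForm 3 F q w w = 1 ∧ P (w 0) ∧ R (w = w 0 • Pi.single 0 1)} := by
  have key : ∀ w : Fin 3 → F, hermForm 3 F q (act s w) v = w 0 := by
    intro w
    rw [← hs, herm_act, herm_single_right hF, one_pow, mul_one]
  have key2 : ∀ w : Fin 3 → F, act s w = (w 0) • v ↔ w = w 0 • Pi.single 0 1 := by
    intro w
    rw [← hs, ← act_smul]
    exact (act_injective s).eq_iff
  have e : (Fin 3 → F) ≃ (Fin 3 → F) :=
    { toFun := act s, invFun := act s⁻¹, left_inv := act_inv_act s, right_inv := act_act_inv s }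
  symm
  refine Nat.card_congr (Equiv.subtypeEquiv
    { toFun := act s, invFun := act s⁻¹, left_inv := act_inv_act s, right_inv := act_act_inv s } fun w => ?_)
  show _ ↔ hermForm 3 F q (act s w) (act s w) = 1 ∧ P (hermForm 3 F q (act s w) v) ∧
    R (act s w = hermForm 3 F q (act s w) v • v)
  rw [key, herm_act, key2]

/-- the number of involutions -/
theorem card_inv (hF : Fintype.card F = q ^ 2) (h2 : (2 : F) ≠ 0) :
    Nat.card {x : SU 3 F q // x ≠ 1 ∧ x * x = 1} = q ^ 2 * (q ^ 2 - q + 1) := by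
  have h3 := count hF h2 (fun _ => True) (fun _ => True) (fun _ _ _ _ => Iff.rfl)
  simp only [and_true] at h3
  rw [card_norm_one hF, if_neg (by decide), show 3 - 1 = 2 from rfl] at h3
  have h4 := two_le hF
  obtain ⟨m, rfl⟩ : ∃ m, q = m + 1 := ⟨q - 1, by omega⟩
  have h5 : (m + 1) ^ 2 - (m + 1) = (m + 1) * m := by
    rw [Nat.sub_eq_iff_eq_add (by nlinarith)]; ring
  rw [h5]
  have h6 : (m + 1) ^ 2 * ((m + 1) ^ 3 + 1) = (m + 1 + 1) * ((m + 1) ^ 2 * ((m + 1) * m + 1)) := by ring
  rw [h6] at h3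
  exact (Nat.eq_of_mul_eq_mul_left (by omega) h3).symm

theorem card_one (hF : Fintype.card F = q ^ 2) (h2 : (2 : F) ≠ 0) (ht : t ≠ 1) (ht2 : t * t = 1) :
    Nat.card {x : SU 3 F q // x ≠ 1 ∧ x * x = 1 ∧ x ≠ t ∧ Commute t x} = q * (q - 1) := by
  obtain ⟨v, hv, htv⟩ := exists_ref hF h2 ht2 ht
  obtain ⟨s, hs⟩ := exists_map hF hv
  have h3 := count hF h2 (fun x => x ≠ t ∧ Commute t x) (fun w => hermForm 3 F q w v = 0)
    (fun x w hw hx => cond_one hF h2 htv hx hv hw)
  have h4 := card_transport s hs hF (fun c => c = 0) (fun _ => True)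
  simp only [and_true] at h4
  rw [h4, card_perp hF] at h3
  have h5 := two_le hF
  have h6 : q * (q ^ 2 - 1) = (q + 1) * (q * (q - 1)) := by
    obtain ⟨m, rfl⟩ : ∃ m, q = m + 1 := ⟨q - 1, by omega⟩
    have h7 : (m + 1) ^ 2 - 1 = m * (m + 2) := by
      rw [Nat.sub_eq_iff_eq_add (by nlinarith)]; ring
    rw [h7, Nat.add_sub_cancel]
    ring
  rw [h6] at h3
  exact (Nat.eq_of_mul_eq_mul_left (by omega) h3).symm

theorem card_three (hF : Fintype.card F = q ^ 2) (h2 : (2 : F) ≠ 0) (ht : t ≠ 1) (ht2 : t * t = 1) :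
    Nat.card {x : SU 3 F q // x ≠ 1 ∧ x * x = 1 ∧ ¬ Commute t x ∧
        ∀ y : SU 3 F q, y ≠ 1 → y * y = 1 → ¬ (Commute t y ∧ Commute y x)} = (q + 1) * (q ^ 2 - 1) := by
  obtain ⟨v, hv, htv⟩ := exists_ref hF h2 ht2 ht
  obtain ⟨s, hs⟩ := exists_map hF hv
  have h3 := count hF h2 (fun x => ¬ Commute t x ∧
        ∀ y : SU 3 F q, y ≠ 1 → y * y = 1 → ¬ (Commute t y ∧ Commute y x))
    (fun w => hermForm 3 F q w v * hermForm 3 F q w v ^ q = 1 ∧ w ≠ hermForm 3 F q w v • v)
    (fun x w hw hx => cond_three hF h2 htv hx hv hw)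
  have h4 := card_transport s hs hF (fun c => c * c ^ q = 1) (fun p => ¬ p)
  have h5 := card_degen hF
  rw [← h4] at h5
  rw [h5] at h3
  have h6 : (q + 1) * ((q ^ 2 - 1) * (q + 1)) = (q + 1) * ((q + 1) * (q ^ 2 - 1)) := by ring
  rw [h6] at h3
  exact (Nat.eq_of_mul_eq_mul_left (by omega) h3).symm

theorem arith {q N : ℕ} (hq : 3 ≤ q)
    (h0 : 1 + q * (q - 1) + (N + (q + 1) * (q ^ 2 - 1)) = q ^ 2 * (q ^ 2 - q + 1)) :
    N = q * (q - 2) * (q ^ 2 - 1) := by
  obtain ⟨m, rfl⟩ : ∃ m, q = m + 2 := ⟨q - 2, by omega⟩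
  have h7 : (m + 2) ^ 2 - 1 = (m + 1) * (m + 3) := by
    rw [Nat.sub_eq_iff_eq_add (by nlinarith)]; ring
  have h8 : (m + 2) ^ 2 - (m + 2) = (m + 2) * (m + 1) := by
    rw [Nat.sub_eq_iff_eq_add (by nlinarith)]; ring
  rw [h7, h8, show m + 2 - 1 = m + 1 from rfl] at h0
  rw [h7, Nat.add_sub_cancel]
  have h9 : (m + 2) ^ 2 * ((m + 2) * (m + 1) + 1) =
    1 + (m + 2) * (m + 1) + ((m + 2) * m * ((m + 1) * (m + 3)) + (m + 2 + 1) * ((m + 1) * (m + 3))) := by ring
  omega

theorem card_two (hF : Fintype.card F = q ^ 2) (h2 : (2 : F) ≠ 0) (hq : 3 ≤ q) (ht : t ≠ 1) (ht2 : t * t = 1) :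
    Nat.card {x : SU 3 F q // x ≠ 1 ∧ x * x = 1 ∧ ¬ Commute t x ∧
        ∃ y : SU 3 F q, y ≠ 1 ∧ y * y = 1 ∧ Commute t y ∧ Commute y x} = q * (q - 2) * (q ^ 2 - 1) := by
  have h0 := card_inv hF h2
  have h1 := card_one hF h2 ht ht2
  have h3 := card_three hF h2 ht ht2
  rw [card_split (fun x : SU 3 F q => x ≠ 1 ∧ x * x = 1) (fun x => Commute t x),
    card_split (fun x : SU 3 F q => (x ≠ 1 ∧ x * x = 1) ∧ Commute t x) (fun x => x = t),
    card_split (fun x : SU 3 F q => (x ≠ 1 ∧ x * x = 1) ∧ ¬ Commute t x)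
      (fun x => ∃ y : SU 3 F q, y ≠ 1 ∧ y * y = 1 ∧ Commute t y ∧ Commute y x)] at h0
  have e1 : Nat.card {x : SU 3 F q // ((x ≠ 1 ∧ x * x = 1) ∧ Commute t x) ∧ x = t} = 1 := by
    rw [Nat.card_eq_one_iff_unique]
    exact ⟨⟨fun a b => Subtype.ext (a.2.2.trans b.2.2.symm)⟩, ⟨⟨t, ⟨⟨ht, ht2⟩, Commute.refl _⟩, rfl⟩⟩⟩
  have e2 : Nat.card {x : SU 3 F q // ((x ≠ 1 ∧ x * x = 1) ∧ Commute t x) ∧ ¬ x = t} = q * (q - 1) := by
    rw [← h1]
    refine Nat.card_congr (Equiv.subtypeEquivRight fun x => ?_)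
    tauto
  have e3 : Nat.card {x : SU 3 F q // ((x ≠ 1 ∧ x * x = 1) ∧ ¬ Commute t x) ∧
      ¬ ∃ y : SU 3 F q, y ≠ 1 ∧ y * y = 1 ∧ Commute t y ∧ Commute y x} = (q + 1) * (q ^ 2 - 1) := by
    rw [← h3]
    refine Nat.card_congr (Equiv.subtypeEquivRight fun x => ?_)
    constructor
    · rintro ⟨⟨⟨h4, h5⟩, h6⟩, h7⟩
      exact ⟨h4, h5, h6, fun y hy1 hy2 h8 => h7 ⟨y, hy1, hy2, h8.1, h8.2⟩⟩
    · rintro ⟨h4, h5, h6, h7⟩
      exact ⟨⟨⟨h4, h5⟩, h6⟩, fun ⟨y, hy1, hy2, h8, h9⟩ => h7 y hy1 hy2 ⟨h8, h9⟩⟩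
  have e4 : Nat.card {x : SU 3 F q // ((x ≠ 1 ∧ x * x = 1) ∧ ¬ Commute t x) ∧
      ∃ y : SU 3 F q, y ≠ 1 ∧ y * y = 1 ∧ Commute t y ∧ Commute y x} =
    Nat.card {x : SU 3 F q // x ≠ 1 ∧ x * x = 1 ∧ ¬ Commute t x ∧
        ∃ y : SU 3 F q, y ≠ 1 ∧ y * y = 1 ∧ Commute t y ∧ Commute y x} := by
    refine Nat.card_congr (Equiv.subtypeEquivRight fun x => ?_)
    simp only [and_assoc]
  rw [e1, e2, e3, e4] at h0
  exact arith hq h0

/-- the diameter is at most three -/
theorem exists_path (hF : Fintype.card F = q ^ 2) (h2 : (2 : F) ≠ 0) (ht : t ≠ 1) (ht2 : t * t = 1)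
    {x : SU 3 F q} (hx1 : x ≠ 1) (hx2 : x * x = 1) :
    ∃ y z : SU 3 F q, y ≠ 1 ∧ y * y = 1 ∧ z ≠ 1 ∧ z * z = 1 ∧ Commute t y ∧ Commute y z ∧ Commute z x := by
  obtain ⟨v, hv, htv⟩ := exists_ref hF h2 ht2 ht
  obtain ⟨s, hs⟩ := exists_map hF hv
  obtain ⟨w, hw, hxw⟩ := exists_ref hF h2 hx2 hx1
  -- a neighbour of `t` at distance at most two from `x`
  suffices h : ∃ (i : Fin 3), i ≠ 0 ∧
      hermForm 3 F q w (act s (Pi.single i 1)) * hermForm 3 F q w (act s (Pi.single i 1)) ^ q ≠ 1 ∨ x = t ∨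
        hermForm 3 F q w v * hermForm 3 F q w v ^ q ≠ 1 by
    obtain ⟨i, ⟨hi, h⟩ | rfl | h⟩ := h
    · set u := act s (Pi.single i 1) with hu
      have huu : hermForm 3 F q u u = 1 := by
        rw [hu, herm_act, herm_single_right hF]; simp
      have hvu : hermForm 3 F q u v = 0 := by
        rw [hu, ← hs, herm_act, herm_single_right hF, Pi.single_eq_of_ne hi.symm, zero_mul]
      obtain ⟨y, hy⟩ := exists_of_unit hF huu
      obtain ⟨z, hz1, hz2, h3, h4⟩ := exists_common hF h2 hy hxw huu hw h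
      refine ⟨y, z, hy.ne_one h2, hy.mul_self huu, hz1, hz2, ?_, h3, h4⟩
      rw [commute_iff hF h2 htv hy hv huu]
      exact Or.inr hvu
    · exact ⟨x, x, hx1, hx2, hx1, hx2, Commute.refl _, Commute.refl _, Commute.refl _⟩
    · obtain ⟨z, hz1, hz2, h3, h4⟩ := exists_common hF h2 htv hxw hv hw h
      exact ⟨t, z, ht, ht2, hz1, hz2, Commute.refl _, h3, h4⟩
  set w' := act s⁻¹ w with hw'
  have hco : ∀ i, hermForm 3 F q w (act s (Pi.single i 1)) = w' i := by
    intro i
    rw [show w = act s w' from (act_act_inv s w).symm, herm_act, herm_single_right hF, one_pow, mul_one]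
  by_contra hcon
  push Not at hcon
  have h0 := (hcon 0).2.2
  have h1 := (hcon 1).1 (by decide)
  have h3 := (hcon 2).1 (by decide)
  rw [← hs, hco] at h0
  rw [hco] at h1 h3
  have hw1 : hermForm 3 F q w' w' = 1 := by rw [hw', herm_act, hw]
  rw [herm_def, Fin.sum_univ_three, h0, h1, h3] at hw1
  apply h2
  linear_combination hw1

end Numbers

end Cfsg.Agent.H124.SUThree
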