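import Cfsg.Agent.H124.LinCyc
import Cfsg.Agent.H484.CritClassical

/-!
# A special prime for the classical groups (helper124)

`SP K` : there is an odd prime divisor `p` of `|K|`, prime to `|Out K|`, such that the Sylow `p`-subgroups of `K` are
cyclic.
-/

set_option autoImplicit false

namespace Cfsg.Agent.H124.Spec

open Subgroup Cfsg.Agent.H484.SylNorm Cfsg.Agent.H124.LinCyc

universe u v

/-- The property: an odd prime divisor of `|K|` prime to `|Out K|` with cyclic Sylow subgroups. -/
def SP (K : Type*) [Group K] : Prop :=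
  ∃ p : ℕ, p.Prime ∧ p ≠ 2 ∧ p ∣ Nat.card K ∧ (∀ P : Sylow p K, IsCyclic P) ∧
    ¬ p ∣ (MulAut.conj : K →* MulAut K).range.index

theorem SP.congr {K : Type u} [Group K] [Finite K] {X : Type v} [Group X] (e : K ≃* X) (h : SP X) : SP K := by
  obtain ⟨p, hp, h2, hd, hc, h⟩ := h
  have := Fact.mk hp
  refine ⟨p, hp, h2, ?_, fun P => ?_, ?_⟩
  · rwa [Nat.card_congr e.toEquiv]
  · have h1 := hc (P.mapSurjective (f := e.toMonoidHom) e.surjective)
    have h2 : (P : Subgroup K) ≃* ((P : Subgroup K).map e.toMonoidHom) :=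
      (P : Subgroup K).equivMapOfInjective e.toMonoidHom e.injective
    have h3 : IsCyclic ((P : Subgroup K).map e.toMonoidHom) := h1
    exact isCyclic_of_surjective h2.symm.toMonoidHom h2.symm.surjective
  · rwa [Cfsg.Agent.H55.OutGen.index_range_conj_congr e]

/-- from the order of `Aut` -/
theorem sp_of_aut {X : Type*} [Group X] [Finite X] (hc : center X = ⊥) {p n : ℕ} (hp : p.Prime) (h5 : 5 ≤ p)
    (hd : p ∣ Nat.card X) (hcyc : ∀ P : Sylow p X, IsCyclic P) (h : Nat.card (MulAut X) = n * Nat.card X)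
    (hn : ¬ p ∣ n) : SP X :=
  ⟨p, hp, by omega, hd, hcyc, by rwa [index_of_card hc h]⟩

/-- from the order of `Aut`, Sylow subgroups of prime order -/
theorem sp_of_aut' {X : Type*} [Group X] [Finite X] (hc : center X = ⊥) {p n : ℕ} (hp : p.Prime) (h5 : 5 ≤ p)
    (hd : p ∣ Nat.card X) (hd2 : ¬ p ^ 2 ∣ Nat.card X) (h : Nat.card (MulAut X) = n * Nat.card X)
    (hn : ¬ p ∣ n) : SP X := by
  have := Fact.mk hp
  exact sp_of_aut hc hp h5 hd (fun P => isCyclic_sylow hd2 P) h hn

/-- from a model -/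
theorem sp_of_model {K : Type u} [Group K] [Finite K] (hK : IsSimpleGroup K) (hna : ¬ ∀ a b : K, a * b = b * a)
    {X : Type v} [Group X] (e : K ≃* X) (h : Finite X → center X = ⊥ → SP X) : SP K := by
  have hX : IsSimpleGroup X := e.symm.isSimpleGroup
  refine SP.congr e (h (Finite.of_equiv K e.toEquiv) ?_)
  rcases (inferInstance : (center X).Normal).eq_bot_or_eq_top with h1 | h1
  · exact h1
  · exfalso
    apply hna
    intro a b
    apply e.injective
    rw [map_mul, map_mul]
    have h2 : e b ∈ center X := by rw [h1]; trivial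
    exact mem_center_iff.mp h2 (e a)

section

variable {F : Type*} [Field F] [Fintype F]

theorem sp_psl {n : ℕ} (hn : 2 ≤ n) (hn2 : n = 2 → 4 ≤ Fintype.card F)
    (_ : Finite (Matrix.ProjectiveSpecialLinearGroup (Fin n) F))
    (hc : center (Matrix.ProjectiveSpecialLinearGroup (Fin n) F) = ⊥) :
    SP (Matrix.ProjectiveSpecialLinearGroup (Fin n) F) := by
  obtain ⟨r, f, hr, hf, hF⟩ := exists_card F
  have := Fact.mk hr
  have haut := S0813.result r f hf hF n hn (by rwa [← hF])
  rw [card_pgl hn, ← mul_assoc] at haut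
  have hcard := S0243.result (F := F) rfl n hn
  rw [hF] at haut hcard hn2
  -- the general case
  have key : ∀ e, 2 ≤ e → e ≤ n → n < 2 * e → 3 ≤ f * e → ¬ (r = 2 ∧ f * e = 6) →
      SP (Matrix.ProjectiveSpecialLinearGroup (Fin n) F) := by
    intro e he hen hne h3 h6
    obtain ⟨p, h⟩ := exists_zs hr hf h3 h6
    have := Fact.mk h.prime
    refine sp_of_aut hc h.prime h.five (dvd_psl hn hen he (hF ▸ h)) (fun P => ?_) haut ?_
    · have h5 := h.five
      exact isCyclic_sylow_of_gl (e := e) (F := F) (ι := Fin n) (by omega) (by omega) (by rw [hF]; exact h.iff)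
        (by rw [Fintype.card_fin]; exact hne) Matrix.SpecialLinearGroup.toGL Matrix.SpecialLinearGroup.toGL_injective
        (QuotientGroup.mk' (center (Matrix.SpecialLinearGroup (Fin n) F))) (QuotientGroup.mk'_surjective _) P
    · refine h.ndvd_mul (h.ndvd_mul ?_ h.ndvd) (h.not_dvd_gcd he n)
      split_ifs
      · exact h.not_dvd_of_le one_pos (by norm_num)
      · exact h.not_dvd_of_le two_pos (by norm_num)
  by_cases hnf : f * n = 2
  · -- `L_2(r)`
    have hn1 : n = 2 := by
      have h1 := Nat.le_of_dvd two_pos (Dvd.intro_left f hnf)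
      omega
    subst hn1
    obtain rfl : f = 1 := by omega
    have hq4 := hn2 rfl
    rw [Fin.prod_univ_two] at hcard
    rw [pow_one] at hcard hq4 haut
    have h5 : 5 ≤ r := by
      have : r ≠ 4 := by rintro rfl; norm_num at hr
      omega
    have hr1 : ¬ r ∣ r - 1 := fun h => by
      have := Nat.le_of_dvd (by omega) h
      omega
    have hg : ¬ r ∣ Nat.gcd 2 (r - 1) := fun h => hr1 (h.trans (Nat.gcd_dvd_right _ _))
    refine sp_of_aut' hc hr h5 ?_ ?_ haut ?_
    · have h6 : r ∣ Nat.gcd 2 (r - 1) * ((r - 1) *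
          Nat.card (Matrix.ProjectiveSpecialLinearGroup (Fin 2) F)) := by
        rw [hcard]
        apply Dvd.dvd.mul_left
        show r ∣ r ^ 2 - r ^ 1
        exact Nat.dvd_sub (dvd_pow_self r two_ne_zero) (dvd_pow_self r one_ne_zero)
      rw [hr.dvd_mul, hr.dvd_mul] at h6
      tauto
    · intro h6
      have h7 : r ^ 2 ∣ (r ^ 2 - 1) * (r ^ 2 - r) := by
        have h8 : r ^ 2 ∣ Nat.gcd 2 (r - 1) * ((r - 1) *
          Nat.card (Matrix.ProjectiveSpecialLinearGroup (Fin 2) F)) := Dvd.dvd.mul_left (Dvd.dvd.mul_left h6 _) _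
        rw [hcard] at h8
        simpa using h8
      have h8 : (r ^ 2 - 1) * (r ^ 2 - r) = r * ((r ^ 2 - 1) * (r - 1)) := by
        have : r ^ 2 - r = r * (r - 1) := by rw [Nat.mul_sub_one, pow_two]
        rw [this]; ring
      rw [h8, pow_two] at h7
      have h9 := Nat.dvd_of_mul_dvd_mul_left hr.pos h7
      rw [hr.dvd_mul] at h9
      rcases h9 with h9 | h9
      · have h10 : r ∣ r * r := Dvd.intro _ rfl
        have h11 := Nat.dvd_sub h10 h9
        rw [Nat.sub_sub_self (Nat.mul_pos hr.pos hr.pos)] at h11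
        exact hr.one_lt.ne' (Nat.dvd_one.1 h11)
      · exact hr1 h9
    · rw [if_pos rfl, one_mul, one_mul]
      exact hg
  by_cases h6 : r = 2 ∧ f * n = 6
  · obtain ⟨rfl, h6⟩ := h6
    have hn6 : n ∣ 6 := Dvd.intro_left f h6
    have hn7 : n ≤ 6 := Nat.le_of_dvd (by norm_num) hn6
    have h26 : n = 2 ∨ n = 3 ∨ n = 6 := by
      interval_cases n <;> simp_all
    rcases h26 with rfl | rfl | rfl
    · obtain rfl : f = 3 := by omega
      norm_num [Fin.prod_univ_two] at hcard
      have h8 : Nat.card (Matrix.ProjectiveSpecialLinearGroup (Fin 2) F) = 504 := by omega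
      refine sp_of_aut' hc (p := 7) (by norm_num) (by norm_num) ?_ ?_ haut (by norm_num)
      · rw [h8]; norm_num
      · rw [h8]; norm_num
    · obtain rfl : f = 2 := by omega
      rw [Fin.prod_univ_three] at hcard
      norm_num at hcard
      have h8 : Nat.card (Matrix.ProjectiveSpecialLinearGroup (Fin 3) F) = 20160 := by omega
      refine sp_of_aut' hc (p := 7) (by norm_num) (by norm_num) ?_ ?_ haut (by norm_num)
      · rw [h8]; norm_num
      · rw [h8]; norm_num
    · obtain rfl : f = 1 := by omega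
      exact key 5 (by norm_num) (by norm_num) (by norm_num) (by norm_num) (by norm_num)
  · refine key n hn le_rfl (by omega) ?_ h6
    have h1 : 2 ≤ f * n := le_trans hn (Nat.le_mul_of_pos_left n hf)
    omega

theorem sp_psp {m : ℕ} (hm : 2 ≤ m) (hm2 : m = 2 → 3 ≤ Fintype.card F) (_ : Finite (Cfsg.PSp m F))
    (hc : center (Cfsg.PSp m F) = ⊥) : SP (Cfsg.PSp m F) := by
  obtain ⟨r, f, hr, hf, hF⟩ := exists_card F
  have := Fact.mk hr
  have haut := S0814.result r f hf hF m hm (by rwa [← hF])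
  have h1 := S0245.result (F := F) hF m
  have h2 := S0246.result (F := F) hF m (by omega)
  have h3 := Subgroup.card_eq_card_quotient_mul_card_subgroup (center (Matrix.symplecticGroup (Fin m) F))
  rw [h1, h2] at h3
  have key : ∀ k, 2 ≤ k → k ≤ m → m < 2 * k → 3 ≤ f * (2 * k) → ¬ (r = 2 ∧ f * (2 * k) = 6) → SP (Cfsg.PSp m F) := by
    intro k hk hkm hmk h3' h6
    obtain ⟨p, h⟩ := exists_zs hr hf h3' h6
    have := Fact.mk h.prime
    refine sp_of_aut hc h.prime h.five ?_ (fun P => ?_) haut ?_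
    · have h4 : p ∣ Nat.gcd 2 (r ^ f - 1) * Nat.card (Cfsg.PSp m F) := by
        rw [mul_comm]
        change p ∣ Nat.card (Matrix.symplecticGroup (Fin m) F ⧸ center (Matrix.symplecticGroup (Fin m) F)) * _
        rw [← h3]
        apply Dvd.dvd.mul_left
        have h5 : k - 1 + 1 = k := by omega
        have h6 := Finset.dvd_prod_of_mem (fun i => (r ^ f) ^ (2 * (i + 1)) - 1)
          (Finset.mem_range.mpr (by omega : k - 1 < m))
        rw [h5] at h6
        exact ((h.iff (2 * k)).mpr dvd_rfl).trans h6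
      exact h.dvd_of_mul (h.not_dvd_gcd (by omega) 2) h4
    · have h5 := h.five
      let σ : Matrix.symplecticGroup (Fin m) F →* Matrix.GeneralLinearGroup (Fin m ⊕ Fin m) F :=
        MonoidHom.toHomUnits (Matrix.symplecticGroup (Fin m) F).subtype
      have hσ : Function.Injective σ := fun a b hab => Subtype.ext (congrArg Units.val hab)
      exact isCyclic_sylow_of_gl (e := 2 * k) (by omega) (by omega) (by rw [hF]; exact h.iff)
        (by simp only [Fintype.card_sum, Fintype.card_fin]; omega) σ hσ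
        (QuotientGroup.mk' (center (Matrix.symplecticGroup (Fin m) F))) (QuotientGroup.mk'_surjective _) P
    · refine h.ndvd_mul (h.ndvd_mul ?_ (h.not_dvd_gcd (by omega) 2)) h.ndvd
      split_ifs
      · exact h.not_dvd_of_le two_pos (by norm_num)
      · exact h.not_dvd_of_le one_pos (by norm_num)
  have h4 : m ≤ f * m := Nat.le_mul_of_pos_left m hf
  have h5 : f * (2 * m) = 2 * (f * m) := by ring
  by_cases h6 : r = 2 ∧ f * (2 * m) = 6
  · obtain ⟨rfl, h6⟩ := h6
    have hm3 : m = 3 := by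
      rcases Nat.lt_or_ge m 3 with h | h
      · obtain rfl : m = 2 := by omega
        omega
      · omega
    subst hm3
    obtain rfl : f = 1 := by omega
    exact key 2 le_rfl (by norm_num) (by norm_num) (by norm_num) (by norm_num)
  · exact key m hm le_rfl (by omega) (by omega) h6

theorem sp_psu {n q : ℕ} (hF : Fintype.card F = q ^ 2) (hn : 3 ≤ n) (hn2 : ¬ (n = 3 ∧ q = 2))
    (_ : Finite (Cfsg.PSU n F q)) (hc : center (Cfsg.PSU n F q) = ⊥) : SP (Cfsg.PSU n F q) := by
  have hq2 : IsPrimePow (q ^ 2) := hF ▸ Fintype.isPrimePow_card_of_field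
  have hqp : IsPrimePow q := (isPrimePow_pow_iff (by norm_num)).1 hq2
  obtain ⟨r, f, hr, hf, hq⟩ := (isPrimePow_nat_iff _).mp hqp
  have := Fact.mk hr
  have haut := S0815.result (F := F) r f hf hq.symm hF n hn hn2
  have h1 := S0280.result hF n (by omega)
  -- `k` odd, `k ≤ n < 2 k`
  have key : ∀ k, Odd k → 3 ≤ k → k ≤ n → n < 2 * k → ¬ (r = 2 ∧ f * (2 * k) = 6) → SP (Cfsg.PSU n F q) := by
    intro k hko hk hkn hnk h6
    have h3' : 3 ≤ f * (2 * k) := by
      have h4 : k ≤ f * k := Nat.le_mul_of_pos_left k hf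
      have h5 : f * (2 * k) = 2 * (f * k) := by ring
      omega
    obtain ⟨p, h⟩ := exists_zs hr hf h3' h6
    rw [hq] at h
    have := Fact.mk h.prime
    refine sp_of_aut hc h.prime h.five ?_ (fun P => ?_) haut ?_
    · refine h.dvd_of_mul (h.not_dvd_succ (by omega)) (h.dvd_of_mul (h.not_dvd_gcd' (by omega) n) ?_)
      rw [h1]
      apply Dvd.dvd.mul_left
      have h4 : p ∣ q ^ k + 1 := h.dvd_add (j := k) (fun h5 => by
        have := Nat.le_of_dvd (by omega) h5
        omega) dvd_rfl
      refine h4.trans ?_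
      have h5 := Finset.dvd_prod_of_mem (fun i => if Even i then q ^ (i + 1) + 1 else q ^ (i + 1) - 1)
        (Finset.mem_range.mpr (by omega : k - 1 < n))
      have h6 : k - 1 + 1 = k := by omega
      have h7 : Even (k - 1) := by
        obtain ⟨t, ht⟩ := hko
        exact ⟨t, by omega⟩
      simp only [h7, if_true, h6] at h5
      exact h5
    · have h5 := h.five
      let σ : Cfsg.SU n F q →* Matrix.GeneralLinearGroup (Fin n) F :=
        Matrix.SpecialLinearGroup.toGL.comp (Cfsg.SU n F q).subtype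
      have hσ : Function.Injective σ := Matrix.SpecialLinearGroup.toGL_injective.comp (Subgroup.subtype_injective _)
      refine isCyclic_sylow_of_gl (e := k) (by omega) (by omega) (fun j => ?_)
        (by rw [Fintype.card_fin]; exact hnk) σ hσ
        (QuotientGroup.mk' (center (Cfsg.SU n F q))) (QuotientGroup.mk'_surjective _) P
      rw [hF, ← pow_mul, h.iff]
      exact ⟨fun h => Nat.dvd_of_mul_dvd_mul_left two_pos h, fun h => Nat.mul_dvd_mul_left 2 h⟩
    · exact h.ndvd_mul (h.not_dvd_gcd' (by omega) n)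
        (h.ndvd_mul (h.not_dvd_of_le two_pos (by norm_num)) h.ndvd)
  have hcase : ∀ k, 3 ≤ k → k ≤ n → (r = 2 ∧ f * (2 * k) = 6) → k = 3 ∧ f = 1 ∧ r = 2 := by
    rintro k hk hkn ⟨h2, h6⟩
    have h4 : k ≤ f * k := Nat.le_mul_of_pos_left k hf
    have h5 : f * (2 * k) = 2 * (f * k) := by ring
    have h7 : k = 3 := by omega
    subst h7
    exact ⟨rfl, by omega, h2⟩
  rcases Nat.even_or_odd n with he | ho
  · obtain ⟨t, ht⟩ := he
    by_cases h6 : r = 2 ∧ f * (2 * (n - 1)) = 6
    · obtain ⟨h7, rfl, rfl⟩ := hcase (n - 1) (by omega) (by omega) h6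
      obtain rfl : n = 4 := by omega
      rw [pow_one] at hq
      subst hq
      norm_num [Finset.prod_range_succ] at h1
      have h8 : Nat.card (Cfsg.PSU 4 F 2) = 25920 := by omega
      refine sp_of_aut' hc (p := 5) (by norm_num) (by norm_num) ?_ ?_ haut (by norm_num)
      · rw [h8]; norm_num
      · rw [h8]; norm_num
    · exact key (n - 1) ⟨t - 1, by omega⟩ (by omega) (by omega) (by omega) h6
  · refine key n ho hn le_rfl (by omega) fun h6 => ?_
    obtain ⟨h7, rfl, rfl⟩ := hcase n hn le_rfl h6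
    exact hn2 ⟨h7, by rw [← hq, pow_one]⟩

/-! ### orthogonal groups -/

theorem cyc_omega {ι : Type} [Fintype ι] [DecidableEq ι] (Q : (ι → F) → F) [Finite (Cfsg.POmega F Q)] {p e : ℕ}
    [hp : Fact p.Prime] (hp2 : p ≠ 2) (he : 0 < e) (hiff : ∀ j, p ∣ Fintype.card F ^ j - 1 ↔ e ∣ j)
    (hdim : Fintype.card ι < 2 * e) (P : Sylow p (Cfsg.POmega F Q)) : IsCyclic P := by
  let σ : Cfsg.Omega F Q →* Matrix.GeneralLinearGroup ι F :=
    (Cfsg.isometryGroup F Q).subtype.comp (Cfsg.Omega F Q).subtype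
  have hσ : Function.Injective σ := (Subgroup.subtype_injective _).comp (Subgroup.subtype_injective _)
  exact isCyclic_sylow_of_gl hp2 he hiff hdim σ hσ (QuotientGroup.mk' (center (Cfsg.Omega F Q)))
    (QuotientGroup.mk'_surjective _) P

theorem sp_oodd {m : ℕ} (hm : 3 ≤ m) (ho : Odd (Fintype.card F))
    (_ : Finite (Cfsg.POmega F (Cfsg.quadFormOdd m F))) (hc : center (Cfsg.POmega F (Cfsg.quadFormOdd m F)) = ⊥) :
    SP (Cfsg.POmega F (Cfsg.quadFormOdd m F)) := by
  obtain ⟨r, f, hr, hf, hF⟩ := exists_card F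
  have := Fact.mk hr
  have hro : Odd r := by
    rw [hF] at ho
    exact (Nat.odd_pow_iff (by omega)).mp ho
  have haut := S0816.result (F := F) r f hf hF hro m hm
  have h1 := S0292.result (F := F) rfl ho m hm
  rw [hF] at h1
  have h4 : m ≤ f * m := Nat.le_mul_of_pos_left m hf
  have h5 : f * (2 * m) = 2 * (f * m) := by ring
  obtain ⟨p, h⟩ := exists_zs hr hf (e := 2 * m) (by omega) (by
    rintro ⟨rfl, -⟩
    exact absurd hro (by decide))
  have := Fact.mk h.prime
  have h5 := h.five
  refine sp_of_aut hc h.prime h.five ?_ (fun P => ?_) haut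
    (h.ndvd_mul (h.not_dvd_of_le two_pos (by norm_num)) h.ndvd)
  · refine h.dvd_of_mul (h.not_dvd_of_le two_pos (by norm_num)) ?_
    rw [h1]
    apply Dvd.dvd.mul_left
    have h7 : m - 1 + 1 = m := by omega
    have h6 := Finset.dvd_prod_of_mem (fun i => (r ^ f) ^ (2 * (i + 1)) - 1)
      (Finset.mem_range.mpr (by omega : m - 1 < m))
    rw [h7] at h6
    exact ((h.iff (2 * m)).mpr dvd_rfl).trans h6
  · exact cyc_omega (Cfsg.quadFormOdd m F) (e := 2 * m) (by omega) (by omega) (by rw [hF]; exact h.iff)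
      (by simp only [Fintype.card_sum, Fintype.card_fin, Fintype.card_unit]; omega) P

theorem sp_oplus {m : ℕ} (hm : 4 ≤ m)
    (_ : Finite (Cfsg.POmega F (Cfsg.quadFormPlus m F))) (hc : center (Cfsg.POmega F (Cfsg.quadFormPlus m F)) = ⊥) :
    SP (Cfsg.POmega F (Cfsg.quadFormPlus m F)) := by
  obtain ⟨r, f, hr, hf, hF⟩ := exists_card F
  have := Fact.mk hr
  have haut := S0817.result (F := F) r f hf hF m hm
  have h1 := S0293.result (F := F) rfl m hm
  rw [hF] at h1
  have h4 : m - 1 ≤ f * (m - 1) := Nat.le_mul_of_pos_left _ hf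
  have h5 : f * (2 * (m - 1)) = 2 * (f * (m - 1)) := by ring
  by_cases h6 : r = 2 ∧ f * (2 * (m - 1)) = 6
  · obtain ⟨rfl, h6⟩ := h6
    obtain rfl : m = 4 := by omega
    obtain rfl : f = 1 := by omega
    norm_num [Finset.prod_range_succ] at h1
    refine sp_of_aut' hc (p := 7) (by norm_num) (by norm_num) ?_ ?_ haut ?_
    · rw [h1]; norm_num
    · rw [h1]; norm_num
    · norm_num
  · obtain ⟨p, h⟩ := exists_zs hr hf (e := 2 * (m - 1)) (by omega) h6
    have := Fact.mk h.prime
    have h5 := h.five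
    refine sp_of_aut hc h.prime h.five ?_ (fun P => ?_) haut ?_
    · have h2 : ¬ p ∣ Nat.gcd 4 ((r ^ f) ^ m - 1) := fun h2 =>
        h.not_dvd_of_le (by norm_num : 0 < 4) le_rfl (h2.trans (Nat.gcd_dvd_left _ _))
      refine h.dvd_of_mul h2 ?_
      rw [h1]
      apply Dvd.dvd.mul_left
      have h7 : m - 2 + 1 = m - 1 := by omega
      have h6 := Finset.dvd_prod_of_mem (fun i => (r ^ f) ^ (2 * (i + 1)) - 1)
        (Finset.mem_range.mpr (by omega : m - 2 < m - 1))
      rw [h7] at h6
      exact ((h.iff (2 * (m - 1))).mpr dvd_rfl).trans h6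
    · exact cyc_omega (Cfsg.quadFormPlus m F) (e := 2 * (m - 1)) (by omega) (by omega) (by rw [hF]; exact h.iff)
        (by simp only [Fintype.card_sum, Fintype.card_fin]; omega) P
    · refine h.ndvd_mul (h.ndvd_mul ?_ ?_) h.ndvd
      · split_ifs
        · exact h.not_dvd_of_le (by norm_num) (by norm_num)
        · exact h.not_dvd_of_le (by norm_num) (by norm_num)
      · split_ifs
        · exact h.not_dvd_of_le (by norm_num) (by norm_num)
        · exact h.not_dvd_eight
        · exact h.not_dvd_of_le (by norm_num) (by norm_num)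

theorem sp_ominus {m : ℕ} (hm : 4 ≤ m) {a b : F}
    (hab : ∀ z₁ z₂ : F, z₁ ^ 2 + a * z₁ * z₂ + b * z₂ ^ 2 = 0 → z₁ = 0 ∧ z₂ = 0)
    (_ : Finite (Cfsg.POmega F (Cfsg.quadFormMinus (m - 1) F a b)))
    (hc : center (Cfsg.POmega F (Cfsg.quadFormMinus (m - 1) F a b)) = ⊥) :
    SP (Cfsg.POmega F (Cfsg.quadFormMinus (m - 1) F a b)) := by
  obtain ⟨r, f, hr, hf, hF⟩ := exists_card F
  have := Fact.mk hr
  have haut := S0818.result (F := F) r f hf hF m hm a b hab
  have h1 := S0294.result (F := F) rfl m hm a b hab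
  rw [hF] at h1
  have h4 : m ≤ f * m := Nat.le_mul_of_pos_left m hf
  have h5 : f * (2 * m) = 2 * (f * m) := by ring
  obtain ⟨p, h⟩ := exists_zs hr hf (e := 2 * m) (by omega) (by omega)
  have := Fact.mk h.prime
  have h5 := h.five
  refine sp_of_aut hc h.prime h.five ?_ (fun P => ?_) haut ?_
  · have h2 : ¬ p ∣ Nat.gcd 4 ((r ^ f) ^ m + 1) := fun h2 =>
      h.not_dvd_of_le (by norm_num : 0 < 4) le_rfl (h2.trans (Nat.gcd_dvd_left _ _))
    refine h.dvd_of_mul h2 ?_
    rw [h1]
    apply Dvd.dvd.mul_right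
    apply Dvd.dvd.mul_left
    exact h.dvd_add (j := m) (fun h5 => by
      have := Nat.le_of_dvd (by omega) h5
      omega) dvd_rfl
  · exact cyc_omega (Cfsg.quadFormMinus (m - 1) F a b) (e := 2 * m) (by omega) (by omega) (by rw [hF]; exact h.iff)
      (by simp only [Fintype.card_sum, Fintype.card_fin]; omega) P
  · refine h.ndvd_mul ?_ h.ndvd
    split_ifs
    · exact h.not_dvd_of_le (by norm_num) (by norm_num)
    · exact h.not_dvd_of_le (by norm_num) (by norm_num)
    · exact h.not_dvd_eight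

end

end Cfsg.Agent.H124.Spec
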