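import Cfsg.Agent.H124.SplitNC
import Cfsg.Agent.ClassicalGeometry.PSL2Basic
import Cfsg.Agent.ClassicalGeometry.SympInvolutions

/-!
# Noncyclic Sylow subgroups of the symplectic groups (helper124)

`psp` : `m ≥ 2`, `p` odd, `p ∣ q ^ 2 - 1`: the Sylow `p`-subgroups of `PSp_{2m}(q)` are not cyclic.
-/

set_option autoImplicit false

namespace Cfsg.Agent.H124.SplitNC

open Subgroup Cfsg.Agent.H123.SpNC
open scoped Matrix

section Sp

variable {F : Type*} [Field F]

/-- an element of order `p` of `SL₂` -/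
theorem exists_sl2 [Fintype F] {p : ℕ} [hp : Fact p.Prime] (h : p ∣ Fintype.card F ^ 2 - 1) :
    ∃ x : Matrix.SpecialLinearGroup (Fin 2) F, orderOf x = p := by
  apply exists_prime_orderOf_dvd_card' p
  rw [ClassicalGeometry.PSL2Basic.card_SL2]
  exact Dvd.dvd.mul_left h _

/-- powers of an element of order `p` in a direct power -/
theorem single_not_mem {ι : Type*} [DecidableEq ι] {G : Type*} [Group G] {x : G} (hx : x ≠ 1) {i j : ι} (hij : i ≠ j) :
    (Pi.mulSingle j x : ι → G) ∉ zpowers (Pi.mulSingle i x : ι → G) := by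
  rintro ⟨k, hk⟩
  have h1 := congrFun hk j
  have h2 : ((Pi.mulSingle i x : ι → G) ^ k) j = 1 := by
    rw [Pi.pow_apply, Pi.mulSingle_eq_of_ne hij.symm, one_zpow]
  have h3 : (Pi.mulSingle j x : ι → G) j = 1 := by
    rw [← h1]
    exact h2
  rw [Pi.mulSingle_eq_same] at h3
  exact hx h3

theorem orderOf_single {ι : Type*} [DecidableEq ι] {G : Type*} [Group G] {x : G} {p : ℕ} [hp : Fact p.Prime]
    (hx : orderOf x = p) (i : ι) : orderOf (Pi.mulSingle i x : ι → G) = p := by
  refine orderOf_eq_prime ?_ ?_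
  · rw [← Pi.mulSingle_pow, ← hx, pow_orderOf_eq_one, Pi.mulSingle_one]
  · intro h
    have h1 := congrFun h i
    rw [Pi.mulSingle_eq_same, Pi.one_apply] at h1
    rw [h1, orderOf_one] at hx
    exact hp.out.one_lt.ne hx

theorem single_comm {ι : Type*} [DecidableEq ι] {G : Type*} [Group G] (x y : G) {i j : ι} (hij : i ≠ j) :
    (Pi.mulSingle i x : ι → G) * Pi.mulSingle j y = Pi.mulSingle j y * Pi.mulSingle i x :=
  Pi.mulSingle_commute (f := fun _ => G) hij x y

/-- two elements in a direct power -/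
theorem nc_pow {ι : Type*} [DecidableEq ι] {L : Type*} [Group L] {p : ℕ} [hp : Fact p.Prime] {x : L}
    (hx : orderOf x = p) {i j : ι} (hij : i ≠ j) {G : Type*} [Group G] [Finite G] (g : (ι → L) →* G)
    (hg : ∀ x : ι → L, x ^ p = 1 → g x = 1 → x = 1) : NC p G := by
  have hx1 : x ≠ 1 := by
    rintro rfl
    rw [orderOf_one] at hx
    exact hp.out.one_lt.ne hx
  refine nc_of_hom g hg (orderOf_single hx i) (b := Pi.mulSingle j x) ?_ (single_comm x x hij)
    (single_not_mem hx1 hij)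
  rw [← Pi.mulSingle_pow, ← hx, pow_orderOf_eq_one, Pi.mulSingle_one]

/-- `SL₂(F)^m` in matrices -/
def spMat {m : ℕ} (g : Fin m → Matrix.SpecialLinearGroup (Fin 2) F) : Matrix (Fin m ⊕ Fin m) (Fin m ⊕ Fin m) F :=
  Matrix.fromBlocks (Matrix.diagonal fun k => (g k : Matrix (Fin 2) (Fin 2) F) 0 0)
    (Matrix.diagonal fun k => (g k : Matrix (Fin 2) (Fin 2) F) 0 1)
    (Matrix.diagonal fun k => (g k : Matrix (Fin 2) (Fin 2) F) 1 0)
    (Matrix.diagonal fun k => (g k : Matrix (Fin 2) (Fin 2) F) 1 1)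

theorem spMat_one {m : ℕ} : spMat (1 : Fin m → Matrix.SpecialLinearGroup (Fin 2) F) = 1 := by
  unfold spMat
  rw [← Matrix.fromBlocks_one]
  congr 1 <;> simp

theorem spMat_mul {m : ℕ} (g h : Fin m → Matrix.SpecialLinearGroup (Fin 2) F) :
    spMat (g * h) = spMat g * spMat h := by
  unfold spMat
  rw [Matrix.fromBlocks_multiply]
  simp only [Matrix.diagonal_mul_diagonal, Matrix.diagonal_add]
  congr 2 <;> funext k <;> simp [Matrix.mul_apply, Fin.sum_univ_two]

theorem spMat_mem {m : ℕ} (g : Fin m → Matrix.SpecialLinearGroup (Fin 2) F) :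
    spMat g ∈ Matrix.symplecticGroup (Fin m) F := by
  rw [SymplecticGroup.mem_iff]
  unfold spMat Matrix.J
  rw [Matrix.fromBlocks_transpose, Matrix.fromBlocks_multiply, Matrix.fromBlocks_multiply]
  have hdet : ∀ k, (g k : Matrix (Fin 2) (Fin 2) F) 0 0 * (g k : Matrix (Fin 2) (Fin 2) F) 1 1 -
      (g k : Matrix (Fin 2) (Fin 2) F) 0 1 * (g k : Matrix (Fin 2) (Fin 2) F) 1 0 = 1 := by
    intro k
    have := (g k).2
    rwa [Matrix.det_fin_two] at this
  have e1 : (-1 : Matrix (Fin m) (Fin m) F) = Matrix.diagonal (fun _ => -1) := by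
    rw [← Matrix.diagonal_one, Matrix.diagonal_neg]
  simp only [Matrix.mul_zero, Matrix.mul_one, zero_add, add_zero, e1, Matrix.diagonal_transpose,
    Matrix.diagonal_mul_diagonal, Matrix.diagonal_add]
  congr 1
  · rw [← Matrix.diagonal_zero]
    congr 1
    funext k
    ring
  · congr 1
    funext k
    linear_combination -(hdet k)
  · rw [← Matrix.diagonal_one]
    congr 1
    funext k
    linear_combination (hdet k)
  · rw [← Matrix.diagonal_zero]
    congr 1
    funext k
    ring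

/-- the homomorphism -/
def spHom (F : Type*) [Field F] (m : ℕ) : (Fin m → Matrix.SpecialLinearGroup (Fin 2) F) →* Matrix.symplecticGroup (Fin m) F where
  toFun g := ⟨spMat g, spMat_mem g⟩
  map_one' := Subtype.ext spMat_one
  map_mul' g h := Subtype.ext (spMat_mul g h)

theorem spMat_injective {m : ℕ} {g : Fin m → Matrix.SpecialLinearGroup (Fin 2) F} (h : spMat g = 1) : g = 1 := by
  funext k
  apply Subtype.ext
  have h1 : ∀ i j, spMat g i j = (1 : Matrix (Fin m ⊕ Fin m) (Fin m ⊕ Fin m) F) i j := fun i j => by rw [h]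
  have e1 := h1 (Sum.inl k) (Sum.inl k)
  have e2 := h1 (Sum.inl k) (Sum.inr k)
  have e3 := h1 (Sum.inr k) (Sum.inl k)
  have e4 := h1 (Sum.inr k) (Sum.inr k)
  simp only [spMat, Matrix.fromBlocks_apply₁₁, Matrix.fromBlocks_apply₁₂, Matrix.fromBlocks_apply₂₁,
    Matrix.fromBlocks_apply₂₂, Matrix.diagonal_apply_eq, Matrix.one_apply_eq] at e1 e2 e3 e4
  rw [Matrix.one_apply_ne (by simp)] at e2
  rw [Matrix.one_apply_ne (by simp)] at e3
  ext i j
  fin_cases i <;> fin_cases j
  · simpa using e1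
  · simpa using e2
  · simpa using e3
  · simpa using e4

/-- **The symplectic groups.** -/
theorem psp [Fintype F] {m p : ℕ} [hp : Fact p.Prime] (hp2 : p ≠ 2) (hm : 2 ≤ m)
    (h : p ∣ Fintype.card F ^ 2 - 1) : NC p (Cfsg.PSp m F) := by
  obtain ⟨x, hx⟩ := exists_sl2 (F := F) h
  have hij : (⟨0, by omega⟩ : Fin m) ≠ ⟨1, by omega⟩ := by simp [Fin.ext_iff]
  refine nc_pow hx hij ((QuotientGroup.mk' (Subgroup.center (Matrix.symplecticGroup (Fin m) F))).comp (spHom F m)) ?_
  intro g hg h1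
  have h2 : spHom F m g ∈ Subgroup.center (Matrix.symplecticGroup (Fin m) F) := (QuotientGroup.eq_one_iff _).1 h1
  have h3 : (spHom F m g) ^ p = 1 := by rw [← map_pow, hg, map_one]
  rcases ClassicalGeometry.SympInvolutions.center_eq h2 with h4 | h4
  · exact spMat_injective h4
  · have h5 : (-1 : Matrix (Fin m ⊕ Fin m) (Fin m ⊕ Fin m) F) ^ p = 1 := by
      rw [← h4]
      exact congrArg Subtype.val h3
    have hodd : Odd p := hp.out.odd_of_ne_two hp2
    rw [hodd.neg_one_pow] at h5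
    apply spMat_injective
    show ((spHom F m g : Matrix.symplecticGroup (Fin m) F) : Matrix (Fin m ⊕ Fin m) (Fin m ⊕ Fin m) F) = 1
    rw [h4, h5]

end Sp

end Cfsg.Agent.H124.SplitNC
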